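import Cfsg.Agent.FusionBiset.Marks

/-!
Orbit counting congruences for marks, and the completion of an action whose marks are balanced on
large members of a family of subgroups to one balanced on all members.
-/

namespace CfsgLib.FusionBiset

universe u

variable {K : Type u} [Group K]

theorem mark_conj {X : Type*} [MulAction K X] (A : Subgroup K) (g : K) :
    mark X (A.map (MulAut.conj g).toMonoidHom) = mark X A := by
  refine (Nat.card_congr ((MulAction.toPerm g).subtypeEquiv fun x => ?_)).symm
  rw [MulAction.toPerm_apply, MulAction.stabilizer_smul_eq_stabilizer_map_conj,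
    Subgroup.map_le_map_iff_of_injective (MulAut.conj g).injective]

/-- The mark of `K ⧸ A` at `A` itself. -/
noncomputable def weight (A : Subgroup K) : ℕ := mark (K ⧸ A) A

theorem card_mul_weight [Finite K] (A : Subgroup K) :
    Nat.card A * weight A = Nat.card (Subgroup.normalizer (A : Set K)) := by
  rw [weight, card_mul_mark_quotient]
  refine Nat.card_congr (Equiv.subtypeEquivRight fun g => ?_)
  rw [Subgroup.mem_normalizer_iff_map_conj_eq]
  exact ⟨fun h => (Subgroup.eq_of_le_of_card_ge h
    (Subgroup.card_map_of_injective (MulAut.conj g).injective).le).symm, fun h => h.ge⟩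

theorem weight_pos [Finite K] (A : Subgroup K) : 0 < weight A := by
  have h := card_mul_weight A
  rcases Nat.eq_zero_or_pos (weight A) with h0 | h0
  · rw [h0, mul_zero] at h
    exact absurd h.symm Nat.card_pos.ne'
  · exact h0

/-- Orbit counting on the points fixed by `A`, for a group `H` acting through `Φ` into the
normalizer of `A`. -/
theorem dvd_sum_mark {H : Type*} [Group H] [Fintype H] {X : Type*} [MulAction K X] [Finite X]
    (A : Subgroup K) (Φ : H →* K) (hΦ : ∀ h, Φ h ∈ Subgroup.normalizer (A : Set K)) :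
    Fintype.card H ∣ ∑ h : H, mark X (A ⊔ Subgroup.zpowers (Φ h)) := by
  classical
  cases nonempty_fintype X
  let act : MulAction H X := MulAction.compHom X Φ
  let Y : SubMulAction H X :=
    { carrier := {x | A ≤ MulAction.stabilizer K x}
      smul_mem' := fun h x hx => by
        show A ≤ MulAction.stabilizer K (Φ h • x)
        rw [MulAction.stabilizer_smul_eq_stabilizer_map_conj,
          ← Subgroup.mem_normalizer_iff_map_conj_eq.1 (hΦ h)]
        exact Subgroup.map_mono hx }
  have : Fintype (MulAction.orbitRel.Quotient H Y) := Fintype.ofFinite _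
  have hfix : ∀ h : H, Fintype.card (MulAction.fixedBy Y h) =
      mark X (A ⊔ Subgroup.zpowers (Φ h)) := by
    intro h
    rw [← Nat.card_eq_fintype_card]
    refine Nat.card_congr
      ((Equiv.subtypeEquivRight fun y => ?_).trans
        ((Equiv.subtypeSubtypeEquivSubtypeInter (fun x : X => A ≤ MulAction.stabilizer K x)
          (fun x => Φ h • x = x)).trans (Equiv.subtypeEquivRight fun x => ?_)))
    · rw [MulAction.mem_fixedBy, Subtype.ext_iff]
      exact Iff.rfl
    · rw [sup_le_iff, Subgroup.zpowers_le, MulAction.mem_stabilizer_iff]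
  have h := MulAction.sum_card_fixedBy_eq_card_orbits_mul_card_group H Y
  simp only [hfix] at h
  exact ⟨_, h.trans (mul_comm _ _)⟩

/-- The mark at `B` is congruent to the mark at `A₀` modulo the weight of `B`, if the normalizer of
`B` maps injectively into that of `A₀` compatibly with the marks on larger subgroups. -/
theorem mark_modEq [Finite K] {X : Type*} [MulAction K X] [Finite X] {A₀ B N : Subgroup K}
    (hN : N = Subgroup.normalizer (B : Set K)) (Φ : N →* K) (hinj : Function.Injective Φ)
    (hB : (B.subgroupOf N).map Φ = A₀)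
    (hmark : ∀ V : Subgroup N, B < V.map N.subtype →
      mark X (V.map Φ) = mark X (V.map N.subtype)) :
    mark X B ≡ mark X A₀ [MOD weight B] ∧ weight B ∣ weight A₀ := by
  classical
  cases nonempty_fintype N
  have hBN : B ≤ N := hN ▸ Subgroup.le_normalizer
  have hmem : ∀ n : N, (Φ n ∈ A₀ ↔ (n : K) ∈ B) := by
    intro n
    rw [← hB]
    exact ⟨fun ⟨m, hm, hmn⟩ => hinj hmn ▸ hm, fun h => ⟨n, h, rfl⟩⟩
  have hΦN : ∀ n, Φ n ∈ Subgroup.normalizer (A₀ : Set K) := by
    intro n
    refine Subgroup.mem_normalizer_fintype fun a ha => ?_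
    rw [SetLike.mem_coe, ← hB] at ha ⊢
    obtain ⟨m, hm, rfl⟩ := ha
    exact ⟨n * m * n⁻¹, (Subgroup.mem_normalizer_iff.1 (hN.le n.2) m).1 hm, by simp⟩
  have hcardA : Nat.card A₀ = Nat.card B := by
    rw [← hB, Subgroup.card_map_of_injective hinj,
      Nat.card_congr (Subgroup.subgroupOfEquivOfLe hBN).toEquiv]
  constructor
  · have h1 := dvd_sum_mark (X := X) B N.subtype fun n => hN.le n.2
    have h2 := dvd_sum_mark (X := X) A₀ Φ hΦN
    let P : N → Prop := fun n => (n : K) ∈ B
    have hin1 : ∀ n, P n → mark X (B ⊔ Subgroup.zpowers (N.subtype n)) = mark X B := fun n hn => by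
      rw [sup_eq_left.2 (Subgroup.zpowers_le.2 hn : Subgroup.zpowers (N.subtype n) ≤ B)]
    have hin2 : ∀ n, P n → mark X (A₀ ⊔ Subgroup.zpowers (Φ n)) = mark X A₀ := fun n hn => by
      rw [sup_eq_left.2 (Subgroup.zpowers_le.2 ((hmem n).2 hn))]
    have hout : ∀ n, ¬ P n → mark X (A₀ ⊔ Subgroup.zpowers (Φ n)) =
        mark X (B ⊔ Subgroup.zpowers (N.subtype n)) := by
      intro n hn
      have e1 : (B.subgroupOf N ⊔ Subgroup.zpowers n).map N.subtype =
          B ⊔ Subgroup.zpowers (N.subtype n) := by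
        rw [Subgroup.map_sup, Subgroup.map_subgroupOf_eq_of_le hBN, MonoidHom.map_zpowers]
      have e2 : (B.subgroupOf N ⊔ Subgroup.zpowers n).map Φ = A₀ ⊔ Subgroup.zpowers (Φ n) := by
        rw [Subgroup.map_sup, hB, MonoidHom.map_zpowers]
      rw [← e1, ← e2]
      refine hmark _ ?_
      rw [e1]
      refine lt_of_le_of_ne le_sup_left fun e => hn ?_
      have : N.subtype n ∈ B ⊔ Subgroup.zpowers (N.subtype n) :=
        Subgroup.mem_sup_right (Subgroup.mem_zpowers _)
      rwa [← e] at this
    have hcount : (Finset.univ.filter P).card = Nat.card B := by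
      rw [← Fintype.card_subtype, ← Nat.card_eq_fintype_card]
      exact Nat.card_congr (Subgroup.subgroupOfEquivOfLe hBN).toEquiv
    rw [← Finset.sum_filter_add_sum_filter_not Finset.univ P,
      Finset.sum_congr rfl fun n hn => hin1 n (Finset.mem_filter.1 hn).2,
      Finset.sum_const, hcount, smul_eq_mul] at h1
    rw [← Finset.sum_filter_add_sum_filter_not Finset.univ P,
      Finset.sum_congr rfl fun n hn => hin2 n (Finset.mem_filter.1 hn).2,
      Finset.sum_const, hcount, smul_eq_mul,
      Finset.sum_congr rfl fun n hn => hout n (Finset.mem_filter.1 hn).2] at h2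
    have h3 : Nat.card B * mark X B ≡ Nat.card B * mark X A₀ [MOD Fintype.card N] :=
      Nat.ModEq.add_right_cancel' _
        ((Nat.modEq_zero_iff_dvd.2 h1).trans (Nat.modEq_zero_iff_dvd.2 h2).symm)
    rw [← Nat.card_eq_fintype_card, hN, ← card_mul_weight B] at h3
    exact Nat.ModEq.mul_left_cancel' Nat.card_pos.ne' h3
  · have h1 : Nat.card N ∣ Nat.card (Subgroup.normalizer (A₀ : Set K)) :=
      Subgroup.card_dvd_of_injective (Φ.codRestrict _ hΦN) fun a b h =>
        hinj (congrArg Subtype.val h)
    rw [hN, ← card_mul_weight, ← card_mul_weight, hcardA] at h1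
    exact Nat.dvd_of_mul_dvd_mul_left Nat.card_pos h1

/-- Complete an action balanced on the large members of `𝓕` to one balanced on all of `𝓕`,
changing its cardinality only by multiples of the indices of smaller members. -/
theorem exists_completion [Finite K] (𝓕 : Set (Subgroup K)) (R : Subgroup K → Subgroup K → Prop)
    (hR : Equivalence R) (hRconj : ∀ A g, R A (A.map (MulAut.conj g).toMonoidHom))
    (hRcard : ∀ A ∈ 𝓕, ∀ B ∈ 𝓕, R A B → Nat.card A = Nat.card B)
    (hconj : ∀ A ∈ 𝓕, ∀ g : K, A.map (MulAut.conj g).toMonoidHom ∈ 𝓕)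
    (hdown : ∀ A ∈ 𝓕, ∀ B ≤ A, B ∈ 𝓕) (m₀ : ℕ)
    (hstar : ∀ A ∈ 𝓕, Nat.card A < m₀ → ∃ A₀ ∈ 𝓕, R A A₀ ∧ ∀ B ∈ 𝓕, R A B →
      ∃ (g : K) (Φ : Subgroup.normalizer ((B.map (MulAut.conj g).toMonoidHom : Subgroup K) : Set K) →* K),
        Function.Injective Φ ∧
        ((B.map (MulAut.conj g).toMonoidHom).subgroupOf _).map Φ = A₀ ∧
        ∀ V : Subgroup (Subgroup.normalizer ((B.map (MulAut.conj g).toMonoidHom : Subgroup K) : Set K)),
          Nat.card A < Nat.card (V.map (Subgroup.subtype _) : Subgroup K) →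
          (V.map (Subgroup.subtype _) ∈ 𝓕 ↔ V.map Φ ∈ 𝓕) ∧
          (V.map (Subgroup.subtype _) ∈ 𝓕 → R (V.map (Subgroup.subtype _)) (V.map Φ)))
    (X₀ : Type u) [Finite X₀] [MulAction K X₀]
    (hX₀ : ∀ x : X₀, MulAction.stabilizer K x ∈ 𝓕)
    (hbal₀ : ∀ A ∈ 𝓕, ∀ B ∈ 𝓕, R A B → m₀ ≤ Nat.card A → mark X₀ A = mark X₀ B) :
    ∃ (X : Type u) (_ : Finite X) (_ : MulAction K X),
      (∀ x : X, MulAction.stabilizer K x ∈ 𝓕) ∧
      (∀ A ∈ 𝓕, ∀ B ∈ 𝓕, R A B → mark X A = mark X B) ∧
      ∀ e : ℕ, (∀ A ∈ 𝓕, Nat.card A < m₀ → e ∣ A.index) → Nat.card X ≡ Nat.card X₀ [MOD e] := by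
  classical
  suffices ∀ d : ℕ, ∃ (X : Type u) (_ : Finite X) (_ : MulAction K X),
      (∀ x : X, MulAction.stabilizer K x ∈ 𝓕) ∧
      (∀ A ∈ 𝓕, ∀ B ∈ 𝓕, R A B → m₀ ≤ Nat.card A + d → mark X A = mark X B) ∧
      ∀ e : ℕ, (∀ A ∈ 𝓕, Nat.card A < m₀ → e ∣ A.index) → Nat.card X ≡ Nat.card X₀ [MOD e] by
    obtain ⟨X, i1, i2, h1, h2, h3⟩ := this m₀
    exact ⟨X, i1, i2, h1, fun A hA B hB h => h2 A hA B hB h (by omega), h3⟩
  intro d
  induction d with
  | zero => exact ⟨X₀, inferInstance, inferInstance, hX₀,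
      fun A hA B hB h hm => hbal₀ A hA B hB h (by omega), fun e _ => rfl⟩
  | succ d ih =>
    obtain ⟨X, iX, aX, hst, hbal, hcardX⟩ := ih
    by_cases hd : m₀ ≤ d
    · exact ⟨X, iX, aX, hst, fun A hA B hB h hm => hbal A hA B hB h (by omega), hcardX⟩
    let m := m₀ - (d + 1)
    let T := {A : Subgroup K // A ∈ 𝓕 ∧ Nat.card A = m}
    let sR : Setoid T := ⟨fun A B => R A.1 B.1, fun A => hR.refl _, fun h => hR.symm h,
      fun h h' => hR.trans h h'⟩
    let sC : Setoid T := ⟨fun A B => ∃ g : K, A.1.map (MulAut.conj g).toMonoidHom = B.1,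
      fun A => ⟨1, by
        ext x
        simp⟩,
      fun {A B} ⟨g, hg⟩ => ⟨g⁻¹, by
        rw [← hg, Subgroup.map_map]
        convert Subgroup.map_id A.1 using 2
        ext x; simp [mul_assoc]⟩,
      fun {A B C} ⟨g, hg⟩ ⟨g', hg'⟩ => ⟨g' * g, by
        rw [← hg', ← hg, Subgroup.map_map]
        congr 1
        ext x; simp [mul_assoc]⟩⟩
    have hzero : ∀ V : Subgroup K, V ∉ 𝓕 → mark X V = 0 := by
      intro V hV
      have : IsEmpty {x : X // V ≤ MulAction.stabilizer K x} :=
        ⟨fun x => hV (hdown _ (hst x.1) V x.2)⟩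
      exact Nat.card_of_isEmpty
    -- a reference subgroup for each class
    have href : ∀ A : T, ∃ A₀ : T, R A.1 A₀.1 ∧ ∀ B : T, R A.1 B.1 →
        mark X B.1 ≡ mark X A₀.1 [MOD weight B.1] ∧ weight B.1 ∣ weight A₀.1 := by
      intro A
      obtain ⟨A₀, hA₀, hRA, h⟩ := hstar A.1 A.2.1 (by rw [A.2.2]; omega)
      refine ⟨⟨A₀, hA₀, (hRcard A.1 A.2.1 A₀ hA₀ hRA).symm.trans A.2.2⟩, hRA, fun B hB => ?_⟩
      obtain ⟨g, Φ, hinj, hmap, hV⟩ := h B.1 B.2.1 hB
      have := mark_modEq (X := X) rfl Φ hinj hmap fun V hlt => by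
        have hlt' := Set.Finite.card_lt_card (Set.toFinite _) hlt
        simp only [SetLike.coe_sort_coe] at hlt'
        rw [Subgroup.card_map_of_injective (MulAut.conj g).injective, B.2.2] at hlt'
        obtain ⟨hiff, hRV⟩ := hV V (A.2.2.symm ▸ hlt')
        by_cases hVF : V.map (Subgroup.subtype _) ∈ 𝓕
        · exact (hbal _ hVF _ (hiff.1 hVF) (hRV hVF) (by omega)).symm
        · rw [hzero _ hVF, hzero _ fun h => hVF (hiff.2 h)]
      have hw : weight (B.1.map (MulAut.conj g).toMonoidHom) = weight B.1 := by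
        have h1 := card_mul_weight (B.1.map (MulAut.conj g).toMonoidHom)
        rw [← Subgroup.map_equiv_normalizer_eq, Subgroup.card_map_of_injective (MulAut.conj g).injective,
          Subgroup.card_map_of_injective (MulAut.conj g).injective, ← card_mul_weight B.1] at h1
        exact Nat.eq_of_mul_eq_mul_left Nat.card_pos h1
      rwa [mark_conj, hw] at this
    choose ref hrefR hrefV using href
    let M : Quotient sR → ℕ := fun q =>
      mark X (ref q.out).1 + weight (ref q.out).1 * Nat.card X
    have hM : ∀ B : T, mark X B.1 ≤ M ⟦B⟧ ∧ weight B.1 ∣ M ⟦B⟧ - mark X B.1 := by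
      intro B
      set C : T := (⟦B⟧ : Quotient sR).out
      have hCB : R C.1 B.1 := Quotient.exact (Quotient.out_eq (⟦B⟧ : Quotient sR))
      obtain ⟨hmod, hdvd⟩ := hrefV C B hCB
      have hle : mark X B.1 ≤ M ⟦B⟧ :=
        calc mark X B.1 ≤ Nat.card X := Finite.card_subtype_le _
          _ ≤ weight (ref C).1 * Nat.card X := Nat.le_mul_of_pos_left _ (weight_pos _)
          _ ≤ _ := Nat.le_add_left _ _
      refine ⟨hle, (Nat.modEq_iff_dvd' hle).1 ?_⟩
      exact hmod.trans ((Nat.modEq_iff_dvd' (Nat.le_add_right _ _)).2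
        (by rw [Nat.add_sub_cancel_left]; exact dvd_mul_of_dvd_left hdvd _))
    let n : Quotient sC → ℕ := fun c =>
      (M ⟦c.out⟧ - mark X c.out.1) / weight c.out.1
    have : Fintype (Quotient sC) := Fintype.ofFinite _
    let X' := X ⊕ (Σ c : Quotient sC, Σ _ : Fin (n c), K ⧸ c.out.1)
    have key : ∀ B : Subgroup K, mark X' B = mark X B
        + ∑ c : Quotient sC, n c * mark (K ⧸ c.out.1) B := by
      intro B
      simp only [X', mark_sum, mark_sigma, Finset.sum_const, Finset.card_univ, Fintype.card_fin,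
        smul_eq_mul]
    have hm : 0 < m₀ - d := by omega
    refine ⟨X', inferInstance, inferInstance, ?_, ?_, ?_⟩
    · rintro (x | ⟨c, i, q⟩)
      · rw [stabilizer_sum_inl]
        exact hst x
      · rw [stabilizer_sum_inr, stabilizer_sigma_mk, stabilizer_sigma_mk]
        induction q using QuotientGroup.induction_on with
        | _ g =>
          rw [show ((g : K ⧸ c.out.1)) = g • (((1 : K) : K ⧸ c.out.1)) by simp,
            MulAction.stabilizer_smul_eq_stabilizer_map_conj, MulAction.stabilizer_quotient]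
          exact hconj _ c.out.2.1 g
    · intro A hA B hB hRAB hlt
      have hcard := hRcard A hA B hB hRAB
      rcases Nat.lt_or_ge m (Nat.card A) with hlt' | hge
      · have hz : ∀ C : Subgroup K, Nat.card C = Nat.card A → ∀ c : Quotient sC,
            n c * mark (K ⧸ c.out.1) C = 0 := by
          intro C hC c
          have := c.out.2.2
          rw [mark_quotient_eq_zero (by omega), mul_zero]
        rw [key, key, Finset.sum_eq_zero fun c _ => hz A rfl c,
          Finset.sum_eq_zero fun c _ => hz B hcard.symm c, hbal A hA B hB hRAB (by omega)]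
      · have hAm : Nat.card A = m := by omega
        have hval : ∀ B : T, mark X' B.1 = M ⟦B⟧ := by
          intro B
          rw [key, Finset.sum_eq_single (⟦B⟧ : Quotient sC)]
          · obtain ⟨g, hg⟩ := Quotient.exact (Quotient.out_eq (⟦B⟧ : Quotient sC))
            set C : T := (⟦B⟧ : Quotient sC).out
            have hMB : M ⟦C⟧ = M ⟦B⟧ :=
              congrArg M (Quotient.sound (hg ▸ hRconj C.1 g : R C.1 B.1))
            have hmk : mark X C.1 = mark X B.1 := by rw [← hg, mark_conj]
            show mark X B.1 + (M ⟦C⟧ - mark X C.1) / weight C.1 * mark (K ⧸ C.1) B.1 = M ⟦B⟧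
            rw [show mark (K ⧸ C.1) B.1 = weight C.1 by rw [← hg, mark_conj]; rfl,
              Nat.div_mul_cancel (hM C).2, hMB, hmk, Nat.add_sub_cancel' (hM B).1]
          · intro c _ hne
            refine Nat.mul_eq_zero.2 (Or.inr ?_)
            have : IsEmpty {x : K ⧸ c.out.1 // B.1 ≤ MulAction.stabilizer K x} := by
              refine ⟨fun x => hne ?_⟩
              obtain ⟨x, hx⟩ := x
              induction x using QuotientGroup.induction_on with
              | _ g =>
                rw [show ((g : K ⧸ c.out.1)) = g • (((1 : K) : K ⧸ c.out.1)) by simp,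
                  MulAction.stabilizer_smul_eq_stabilizer_map_conj,
                  MulAction.stabilizer_quotient] at hx
                have heq := Subgroup.eq_of_le_of_card_ge hx (by
                  rw [Subgroup.card_map_of_injective (MulAut.conj g).injective, B.2.2, c.out.2.2])
                rw [← Quotient.out_eq c]
                exact Quotient.sound ⟨g, heq.symm⟩
            exact Nat.card_of_isEmpty
          · exact fun h => absurd (Finset.mem_univ _) h
        rw [hval ⟨A, hA, hAm⟩, hval ⟨B, hB, hcard.symm.trans hAm⟩]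
        exact congrArg M (Quotient.sound hRAB)
    · intro e he
      have hX' : Nat.card X' = Nat.card X + ∑ c : Quotient sC, n c * c.out.1.index := by
        simp only [X', Nat.card_sum, Nat.card_sigma, Finset.sum_const, Finset.card_univ,
          Fintype.card_fin, smul_eq_mul, Subgroup.index_eq_card]
      rw [hX']
      refine Nat.ModEq.trans ?_ (hcardX e he)
      conv_rhs => rw [← Nat.add_zero (Nat.card X)]
      refine Nat.ModEq.add_left _ (Nat.modEq_zero_iff_dvd.2 (Finset.dvd_sum fun c _ => ?_))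
      refine dvd_mul_of_dvd_right (he _ c.out.2.1 ?_) _
      rw [c.out.2.2]
      omega

end CfsgLib.FusionBiset
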