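import Mathlib

/-!
Marks of finite group actions: two finite actions with equal marks are isomorphic, and from a family of
subgroups closed under conjugation one can build an action whose marks depend only on the order.
-/

namespace CfsgLib.FusionBiset

universe u v w

variable {K : Type u} [Group K]

/-- The number of points of `X` fixed by every element of `A`. -/
noncomputable def mark (X : Type*) [MulAction K X] (A : Subgroup K) : ℕ :=
  Nat.card {x : X // A ≤ MulAction.stabilizer K x}

theorem mark_congr {X Y : Type*} [MulAction K X] [MulAction K Y] (e : X ≃ Y)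
    (he : ∀ (k : K) x, e (k • x) = k • e x) (A : Subgroup K) : mark X A = mark Y A := by
  refine Nat.card_congr (e.subtypeEquiv fun x => ?_)
  have : MulAction.stabilizer K (e x) = MulAction.stabilizer K x := by
    ext k
    simp only [MulAction.mem_stabilizer_iff, ← he, e.apply_eq_iff_eq]
  rw [this]

theorem mark_sum (X Y : Type*) [MulAction K X] [MulAction K Y] [Finite X] [Finite Y] (A : Subgroup K) :
    mark (X ⊕ Y) A = mark X A + mark Y A := by
  classical
  unfold mark
  rw [← Nat.card_sum]
  refine Nat.card_congr ?_
  refine (Equiv.subtypeSum).trans (Equiv.sumCongr (Equiv.subtypeEquivRight fun x => ?_)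
    (Equiv.subtypeEquivRight fun x => ?_)) <;>
  · simp only [SetLike.le_def, MulAction.mem_stabilizer_iff]
    simp

theorem mark_sigma {ι : Type*} [Fintype ι] (X : ι → Type*) [∀ i, MulAction K (X i)] [∀ i, Finite (X i)]
    (A : Subgroup K) : mark (Σ i, X i) A = ∑ i, mark (X i) A := by
  classical
  unfold mark
  rw [← Nat.card_sigma]
  refine Nat.card_congr ⟨fun x => ⟨x.1.1, x.1.2, fun k hk => ?_⟩,
    fun x => ⟨⟨x.1, x.2.1⟩, fun k hk => ?_⟩, fun x => rfl, fun x => rfl⟩
  · obtain ⟨⟨i, y⟩, h⟩ := x
    simpa [MulAction.mem_stabilizer_iff] using h hk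
  · have h := x.2.2 hk
    simp only [MulAction.mem_stabilizer_iff] at h ⊢
    simp [h]

/-- The complement of an orbit, as an action. -/
def orbitCompl (X : Type v) [MulAction K X] (x : X) : SubMulAction K X where
  carrier := (MulAction.orbit K x)ᶜ
  smul_mem' k y hy h := hy (by
    simpa using MulAction.mem_orbit_of_mem_orbit k⁻¹ h)

theorem stabilizer_sub {X : Type*} [MulAction K X] (P : SubMulAction K X) (x : P) :
    MulAction.stabilizer K x = MulAction.stabilizer K (x : X) := by
  ext k
  simp [MulAction.mem_stabilizer_iff, Subtype.ext_iff]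

theorem mark_split {X : Type*} [MulAction K X] [Finite X] [Finite K] (x : X) (A : Subgroup K) :
    mark X A = mark (K ⧸ MulAction.stabilizer K x) A + mark (orbitCompl (K := K) X x) A := by
  classical
  rw [← mark_sum]
  let e₁ : MulAction.orbit K x ⊕ (orbitCompl (K := K) X x) ≃ X :=
    Equiv.Set.sumCompl (MulAction.orbit K x)
  let e : (K ⧸ MulAction.stabilizer K x) ⊕ (orbitCompl (K := K) X x) ≃ X :=
    (Equiv.sumCongr (MulAction.orbitEquivQuotientStabilizer K x).symm (Equiv.refl _)).trans e₁
  refine (mark_congr e ?_ A).symm
  rintro k (q | y)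
  · induction q using QuotientGroup.induction_on with
    | _ g =>
      show (((MulAction.orbitEquivQuotientStabilizer K x).symm (k • (g : K ⧸ MulAction.stabilizer K x))) : X)
        = k • ((MulAction.orbitEquivQuotientStabilizer K x).symm (g : K ⧸ MulAction.stabilizer K x) : X)
      rw [MulAction.Quotient.smul_coe, MulAction.orbitEquivQuotientStabilizer_symm_apply,
        MulAction.orbitEquivQuotientStabilizer_symm_apply, smul_eq_mul, mul_smul]
  · rfl

/-- Two finite actions with the same marks are isomorphic. -/
theorem exists_equiv_of_mark_eq [Finite K] {X : Type v} {Y : Type w} [MulAction K X] [MulAction K Y]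
    [Finite X] [Finite Y] (h : ∀ A : Subgroup K, mark X A = mark Y A) :
    ∃ e : X ≃ Y, ∀ (k : K) x, e (k • x) = k • e x := by
  classical
  induction hn : Nat.card X using Nat.strong_induction_on generalizing X Y with
  | _ n ih =>
    rcases isEmpty_or_nonempty X with hX | hX
    · have hY : IsEmpty Y := by
        have h0 := h ⊥
        unfold mark at h0
        rw [Nat.card_of_isEmpty, eq_comm, Nat.card_eq_zero] at h0
        refine h0.elim (fun he => ⟨fun y => he.elim ⟨y, bot_le⟩⟩) fun hi => ?_
        exact (hi.not_finite (inferInstance)).elim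
      exact ⟨Equiv.equivOfIsEmpty X Y, fun _ x => hX.elim x⟩
    · obtain ⟨x, hx⟩ := Finite.exists_max fun x : X => Nat.card (MulAction.stabilizer K x)
      obtain ⟨y, hy⟩ : ∃ y : Y, MulAction.stabilizer K x ≤ MulAction.stabilizer K y := by
        have : 0 < mark Y (MulAction.stabilizer K x) := by
          rw [← h]
          exact Nat.card_pos_iff.2 ⟨⟨⟨x, le_rfl⟩⟩, inferInstance⟩
        obtain ⟨⟨y, hy⟩⟩ := (Nat.card_pos_iff.1 this).1
        exact ⟨y, hy⟩
      have hxy : MulAction.stabilizer K x = MulAction.stabilizer K y := by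
        have : 0 < mark X (MulAction.stabilizer K y) := by
          rw [h]
          exact Nat.card_pos_iff.2 ⟨⟨⟨y, le_rfl⟩⟩, inferInstance⟩
        obtain ⟨⟨x', hx'⟩⟩ := (Nat.card_pos_iff.1 this).1
        exact Subgroup.eq_of_le_of_card_ge hy ((Subgroup.card_le_of_le hx').trans (hx x'))
      have hsub : ∀ A : Subgroup K, mark (orbitCompl (K := K) X x) A = mark (orbitCompl (K := K) Y y) A := by
        intro A
        have := h A
        rw [mark_split x, mark_split y, hxy] at this
        exact Nat.add_left_cancel this
      have hlt : Nat.card (orbitCompl (K := K) X x) < n := by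
        rw [← hn]
        exact Finite.card_subtype_lt (x := x) fun h' => h' (MulAction.mem_orbit_self x)
      obtain ⟨e', he'⟩ := ih _ hlt hsub rfl
      let eo : MulAction.orbit K x ≃ MulAction.orbit K y :=
        ((MulAction.orbitEquivQuotientStabilizer K x).trans (Equiv.cast (by rw [hxy]))).trans
          (MulAction.orbitEquivQuotientStabilizer K y).symm
      have heo : ∀ g : K, (eo ⟨g • x, MulAction.mem_orbit x g⟩ : Y) = g • y := by
        intro g
        have h1 : MulAction.orbitEquivQuotientStabilizer K x ⟨g • x, MulAction.mem_orbit x g⟩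
            = (g : K ⧸ MulAction.stabilizer K x) := by
          rw [← Equiv.eq_symm_apply]
          exact Subtype.ext (MulAction.orbitEquivQuotientStabilizer_symm_apply K x g).symm
        have hc : ∀ (A B : Subgroup K) (hAB : A = B),
            Equiv.cast (congrArg (fun C : Subgroup K => K ⧸ C) hAB) (g : K ⧸ A) = (g : K ⧸ B) := by
          intro A B hAB
          subst hAB
          rfl
        simp only [eo, Equiv.trans_apply, h1]
        rw [hc _ _ hxy]
        exact MulAction.orbitEquivQuotientStabilizer_symm_apply K y g
      let e₁ : X ≃ MulAction.orbit K x ⊕ (orbitCompl (K := K) X x) :=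
        (Equiv.Set.sumCompl (MulAction.orbit K x)).symm
      let e₂ : MulAction.orbit K y ⊕ (orbitCompl (K := K) Y y) ≃ Y :=
        Equiv.Set.sumCompl (MulAction.orbit K y)
      refine ⟨(e₁.trans (Equiv.sumCongr eo e')).trans e₂, fun k z => ?_⟩
      by_cases hz : z ∈ MulAction.orbit K x
      · obtain ⟨g, rfl⟩ := hz
        simp only [← mul_smul]
        have key : ∀ g : K, ((e₁.trans (Equiv.sumCongr eo e')).trans e₂) (g • x) = g • y := by
          intro g
          have : e₁ (g • x) = Sum.inl ⟨g • x, MulAction.mem_orbit x g⟩ :=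
            Equiv.Set.sumCompl_symm_apply_of_mem (MulAction.mem_orbit x g)
          simp only [Equiv.trans_apply, this, Equiv.sumCongr_apply, Sum.map_inl]
          exact heo g
        rw [key, key, mul_smul]
      · have hk : k • z ∈ orbitCompl (K := K) X x := (orbitCompl (K := K) X x).smul_mem k hz
        have h1 : e₁ z = Sum.inr ⟨z, hz⟩ := Equiv.Set.sumCompl_symm_apply_of_notMem hz
        have h2 : e₁ (k • z) = Sum.inr ⟨k • z, hk⟩ := Equiv.Set.sumCompl_symm_apply_of_notMem hk
        simp only [Equiv.trans_apply, h1, h2, Equiv.sumCongr_apply, Sum.map_inr]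
        exact congrArg Subtype.val (he' k ⟨z, hz⟩)

/-- `|A|` times the mark of `K ⧸ A` at `B` counts the elements carrying `A` onto an overgroup of `B`. -/
theorem card_mul_mark_quotient [Finite K] (A B : Subgroup K) :
    Nat.card A * mark (K ⧸ A) B = Nat.card {g : K // B ≤ A.map (MulAut.conj g).toMonoidHom} := by
  classical
  let U : Set (K ⧸ A) := {q | B ≤ MulAction.stabilizer K q}
  have hU : {g : K | B ≤ A.map (MulAut.conj g).toMonoidHom} = QuotientGroup.mk ⁻¹' U := by
    ext g
    show _ ↔ B ≤ MulAction.stabilizer K ((g : K ⧸ A))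
    rw [show ((g : K ⧸ A)) = g • (((1 : K) : K ⧸ A)) by simp,
      MulAction.stabilizer_smul_eq_stabilizer_map_conj, MulAction.stabilizer_quotient]
    rfl
  have h2 := Nat.card_congr (QuotientGroup.preimageMkEquivSubgroupProdSet A U)
  rw [Nat.card_prod, ← hU] at h2
  exact h2.symm

theorem mark_quotient_eq_zero [Finite K] {A B : Subgroup K} (h : Nat.card A < Nat.card B) :
    mark (K ⧸ A) B = 0 := by
  have h1 := card_mul_mark_quotient A B
  have : IsEmpty {g : K // B ≤ A.map (MulAut.conj g).toMonoidHom} := by
    refine ⟨fun g => ?_⟩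
    have := Subgroup.card_le_of_le g.2
    rw [Subgroup.card_map_of_injective (MulAut.conj g.1).injective] at this
    omega
  rw [Nat.card_of_isEmpty (α := {g : K // B ≤ A.map (MulAut.conj g).toMonoidHom})] at h1
  exact (Nat.mul_eq_zero.1 h1).resolve_left Nat.card_pos.ne'

theorem stabilizer_sum_inl {X Y : Type*} [MulAction K X] [MulAction K Y] (x : X) :
    MulAction.stabilizer K (Sum.inl x : X ⊕ Y) = MulAction.stabilizer K x := by
  ext k; simp [MulAction.mem_stabilizer_iff]

theorem stabilizer_sum_inr {X Y : Type*} [MulAction K X] [MulAction K Y] (x : Y) :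
    MulAction.stabilizer K (Sum.inr x : X ⊕ Y) = MulAction.stabilizer K x := by
  ext k; simp [MulAction.mem_stabilizer_iff]

theorem stabilizer_sigma_mk {ι : Type*} {X : ι → Type*} [∀ i, MulAction K (X i)] (i : ι) (x : X i) :
    MulAction.stabilizer K (⟨i, x⟩ : Σ i, X i) = MulAction.stabilizer K x := by
  ext k; simp [MulAction.mem_stabilizer_iff]

/-- For a family `𝓕` of subgroups closed under conjugation there is a finite action with all stabilizers
in `𝓕`, having a point with any prescribed stabilizer from `𝓕`, whose marks at members of `𝓕` of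
equal order agree. -/
theorem exists_balanced (K : Type u) [Group K] [Finite K] (𝓕 : Set (Subgroup K))
    (hconj : ∀ A ∈ 𝓕, ∀ g : K, A.map (MulAut.conj g).toMonoidHom ∈ 𝓕)
    (A₀ : Subgroup K) (hA₀ : A₀ ∈ 𝓕) :
    ∃ (X : Type u) (_ : Finite X) (_ : MulAction K X),
      (∀ x : X, MulAction.stabilizer K x ∈ 𝓕) ∧ (∃ x : X, MulAction.stabilizer K x = A₀) ∧
      ∀ A ∈ 𝓕, ∀ B ∈ 𝓕, Nat.card A = Nat.card B → mark X A = mark X B := by
  classical
  suffices ∀ d : ℕ, ∃ (X : Type u) (_ : Finite X) (_ : MulAction K X),
      (∀ x : X, MulAction.stabilizer K x ∈ 𝓕) ∧ (∃ x : X, MulAction.stabilizer K x = A₀) ∧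
      ∀ A ∈ 𝓕, ∀ B ∈ 𝓕, Nat.card A = Nat.card B → Nat.card K < Nat.card A + d → mark X A = mark X B by
    obtain ⟨X, i1, i2, h1, h2, h3⟩ := this (Nat.card K + 1)
    exact ⟨X, i1, i2, h1, h2, fun A hA B hB h => h3 A hA B hB h (by omega)⟩
  intro d
  induction d with
  | zero =>
    refine ⟨K ⧸ A₀, inferInstance, inferInstance, fun q => ?_, ⟨((1 : K) : K ⧸ A₀),
      MulAction.stabilizer_quotient A₀⟩, fun A _ B _ _ h => ?_⟩
    · induction q using QuotientGroup.induction_on with
      | _ g =>
        rw [show ((g : K ⧸ A₀)) = g • (((1 : K) : K ⧸ A₀)) by simp,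
          MulAction.stabilizer_smul_eq_stabilizer_map_conj, MulAction.stabilizer_quotient]
        exact hconj _ hA₀ g
    · exfalso
      have := Subgroup.card_le_card_group A
      omega
  | succ d ih =>
    obtain ⟨X, iX, aX, hst, ⟨x₀, hx₀⟩, hbal⟩ := ih
    have : Fintype (Subgroup K) := Fintype.ofFinite _
    let m := Nat.card K - d
    let T := {A : Subgroup K // A ∈ 𝓕 ∧ Nat.card A = m}
    let a : T → ℕ := fun A => (Nat.card X - mark X A.1) * m
    let X' := (Σ _ : Fin (Nat.card K), X) ⊕ (Σ A : T, Σ _ : Fin (a A), K ⧸ A.1)
    have key : ∀ B : Subgroup K, mark X' B = Nat.card K * mark X B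
        + ∑ A : T, a A * mark (K ⧸ A.1) B := by
      intro B
      simp only [X', mark_sum, mark_sigma, Finset.sum_const, Finset.card_univ, Fintype.card_fin,
        smul_eq_mul]
    have hK : 0 < Nat.card K := Nat.card_pos
    refine ⟨X', inferInstance, inferInstance, ?_, ⟨Sum.inl ⟨⟨0, hK⟩, x₀⟩, ?_⟩, ?_⟩
    · rintro (⟨i, x⟩ | ⟨A, i, q⟩)
      · rw [stabilizer_sum_inl, stabilizer_sigma_mk]
        exact hst x
      · rw [stabilizer_sum_inr, stabilizer_sigma_mk, stabilizer_sigma_mk]
        induction q using QuotientGroup.induction_on with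
        | _ g =>
          rw [show ((g : K ⧸ A.1)) = g • (((1 : K) : K ⧸ A.1)) by simp,
            MulAction.stabilizer_smul_eq_stabilizer_map_conj, MulAction.stabilizer_quotient]
          exact hconj _ A.2.1 g
    · rw [stabilizer_sum_inl, stabilizer_sigma_mk]
      exact hx₀
    · intro A hA B hB hcard hlt
      rcases Nat.lt_or_ge (Nat.card K) (Nat.card A + d) with hlt' | hge
      · have hz : ∀ C : Subgroup K, Nat.card C = Nat.card A → ∀ D : T, a D * mark (K ⧸ D.1) C = 0 := by
          intro C hC D
          have := D.2.2
          have : 0 < Nat.card D.1 := Nat.card_pos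
          rw [mark_quotient_eq_zero (by omega), mul_zero]
        rw [key, key, Finset.sum_eq_zero fun D _ => hz A rfl D,
          Finset.sum_eq_zero fun D _ => hz B hcard.symm D, hbal A hA B hB hcard hlt']
      · have hm : Nat.card A = m := by
          simp only [m]
          omega
        suffices ∀ C ∈ 𝓕, Nat.card C = m → mark X' C = Nat.card K * Nat.card X by
          rw [this A hA hm, this B hB (hcard ▸ hm)]
        intro C hC hCm
        have hmk : mark X C ≤ Nat.card X := Finite.card_subtype_le _
        have hsum : (∑ D : T, a D * mark (K ⧸ D.1) C)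
            = (Nat.card X - mark X C) * Nat.card K := by
          have hconst : ∀ D : T, a D * mark (K ⧸ D.1) C = (Nat.card X - mark X C) *
              Nat.card {g : K // D.1.map (MulAut.conj g).toMonoidHom = C} := by
            intro D
            have hDC : Nat.card {g : K // C ≤ D.1.map (MulAut.conj g).toMonoidHom}
                = Nat.card {g : K // D.1.map (MulAut.conj g).toMonoidHom = C} := by
              refine Nat.card_congr (Equiv.subtypeEquivRight fun g => ⟨fun h => ?_, fun h => h.ge⟩)
              exact (Subgroup.eq_of_le_of_card_ge h (le_of_eq (by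
                rw [Subgroup.card_map_of_injective (MulAut.conj g).injective, D.2.2, hCm]))).symm
            have h1 := card_mul_mark_quotient D.1 C
            rw [hDC, D.2.2] at h1
            rcases isEmpty_or_nonempty {g : K // D.1.map (MulAut.conj g).toMonoidHom = C} with he | ⟨⟨g, hg⟩⟩
            · rw [Nat.card_of_isEmpty (α := {g : K // D.1.map (MulAut.conj g).toMonoidHom = C})] at h1 ⊢
              rw [mul_zero]
              simp only [a, mul_assoc, h1, mul_zero]
            · have hmark : mark X D.1 = mark X C := by
                refine Nat.card_congr ((MulAction.toPerm g).subtypeEquiv fun x => ?_)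
                rw [← hg, MulAction.toPerm_apply, MulAction.stabilizer_smul_eq_stabilizer_map_conj,
                  Subgroup.map_le_map_iff_of_injective (MulAut.conj g).injective]
              simp only [a, mul_assoc, h1, hmark]
          rw [Finset.sum_congr rfl fun D _ => hconst D, ← Finset.mul_sum, ← Nat.card_sigma]
          congr 1
          refine Nat.card_congr ⟨fun p => p.2.1, fun g => ⟨⟨C.map (MulAut.conj g⁻¹).toMonoidHom,
            hconj C hC _, by rw [Subgroup.card_map_of_injective (MulAut.conj g⁻¹).injective, hCm]⟩,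
            g, ?_⟩, ?_, fun g => rfl⟩
          · rw [Subgroup.map_map]
            conv_rhs => rw [← Subgroup.map_id C]
            congr 1
            ext x
            simp [mul_assoc]
          · rintro ⟨⟨D, hD⟩, g, hg⟩
            have : C.map (MulAut.conj g⁻¹).toMonoidHom = D := by
              rw [← hg, Subgroup.map_map]
              conv_rhs => rw [← Subgroup.map_id D]
              congr 1
              ext x
              simp [mul_assoc]
            subst this
            rfl
        rw [key, hsum, mul_comm (Nat.card X - _), ← Nat.mul_add, Nat.add_sub_cancel' hmk]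

end CfsgLib.FusionBiset
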