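import Cfsg.Prelude.Def_FusionSystem
import Cfsg.Agent.FusionBiset.Marks

/-!
Park's theorem: every fusion system over a finite group is realized by a finite group.
-/

namespace CfsgLib.FusionBiset

open Cfsg

universe u

variable {Ω : Type u} [Group Ω] {S : Subgroup Ω} (F : FusionSystem S)

/-- Restriction of a map to a smaller subgroup. -/
theorem restrict_mem {P R : Subgroup Ω} {φ : P →* Ω} (h : φ ∈ F.Hom P) (hRP : R ≤ P) :
    φ.comp (Subgroup.inclusion hRP) ∈ F.Hom R := by
  have h1 : conjHom R (1 : Ω) ∈ F.Hom R := F.conj_mem (hRP.trans (F.le_of_mem h).1) S.one_mem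
  have hv : ∀ x : R, conjHom R (1 : Ω) x = x := fun x => by simp [conjHom]
  have hin : ∀ x : R, conjHom R (1 : Ω) x ∈ P := fun x => by rw [hv]; exact hRP x.2
  convert F.comp_mem h1 h hin using 1
  ext x
  exact congrArg φ (Subtype.ext (hv x).symm)

/-- A subgroup of `S × S` contained in the twisted diagonal of a map of `F`. -/
def Adm (A : Subgroup (S × S)) : Prop :=
  ∃ (R : Subgroup Ω) (θ : R →* Ω), θ ∈ F.Hom R ∧
    ∀ a ∈ A, ∃ h : (a.2 : Ω) ∈ R, θ ⟨(a.2 : Ω), h⟩ = (a.1 : Ω)

variable {F}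

theorem Adm.mono {A B : Subgroup (S × S)} (h : Adm F B) (hAB : A ≤ B) : Adm F A := by
  obtain ⟨R, θ, hθ, h⟩ := h
  exact ⟨R, θ, hθ, fun a ha => h a (hAB ha)⟩

/-- Push an admissible subgroup forward along a map of the system applied to the first coordinate. -/
theorem Adm.push {A B : Subgroup (S × S)} (h : Adm F A) {Q : Subgroup Ω} {φ : Q →* Ω}
    (hφ : φ ∈ F.Hom Q)
    (hB : ∀ b ∈ B, ∃ a ∈ A, a.2 = b.2 ∧ ∃ hq : (a.1 : Ω) ∈ Q, φ ⟨(a.1 : Ω), hq⟩ = (b.1 : Ω)) :
    Adm F B := by
  obtain ⟨R, θ, hθ, h⟩ := h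
  let R' : Subgroup Ω := (Q.comap θ).map R.subtype
  have hR' : R' ≤ R := by
    rintro _ ⟨x, -, rfl⟩
    exact x.2
  have hin : ∀ x : R', θ.comp (Subgroup.inclusion hR') x ∈ Q := by
    rintro ⟨x, y, hy, rfl⟩
    exact hy
  refine ⟨R', _, F.comp_mem (restrict_mem F hθ hR') hφ hin, fun b hb => ?_⟩
  obtain ⟨a, ha, hab, hq, hv⟩ := hB b hb
  obtain ⟨hR, hθa⟩ := h a ha
  have hmem : (b.2 : Ω) ∈ R' := ⟨⟨(a.2 : Ω), hR⟩, by simpa [Subgroup.mem_comap, hθa] using hq, by simp [hab]⟩
  refine ⟨hmem, ?_⟩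
  rw [← hv]
  refine congrArg φ (Subtype.ext ?_)
  show θ (Subgroup.inclusion hR' ⟨(b.2 : Ω), hmem⟩) = (a.1 : Ω)
  rw [← hθa]
  exact congrArg θ (Subtype.ext (by simp [hab]))

theorem Adm.conj {A : Subgroup (S × S)} (h : Adm F A) (g : S × S) :
    Adm F (A.map (MulAut.conj g).toMonoidHom) := by
  obtain ⟨R, θ, hθ, h⟩ := h
  let R₀ : Subgroup Ω := (S.map (MulAut.conj (g.2 : Ω)).toMonoidHom)
  have hc : conjHom S ((g.2 : Ω))⁻¹ ∈ F.Hom S := F.conj_mem le_rfl (S.inv_mem g.2.2)
  have h1 : Adm F (A.map (MulAut.conj ((g.1, 1) : S × S)).toMonoidHom) := by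
    refine Adm.push ⟨R, θ, hθ, h⟩ (F.conj_mem (P := S) le_rfl g.1.2) ?_
    rintro _ ⟨a, ha, rfl⟩
    exact ⟨a, ha, by simp, a.1.2, by simp [conjHom]⟩
  obtain ⟨R', θ', hθ', h'⟩ := h1
  let R'' : Subgroup Ω := (R'.comap (conjHom S ((g.2 : Ω))⁻¹)).map S.subtype
  have hR'' : R'' ≤ S := by
    rintro _ ⟨x, -, rfl⟩
    exact x.2
  have hin : ∀ x : R'', (conjHom S ((g.2 : Ω))⁻¹).comp (Subgroup.inclusion hR'') x ∈ R' := by
    rintro ⟨x, y, hy, rfl⟩
    exact hy
  refine ⟨R'', _, F.comp_mem (restrict_mem F hc hR'') hθ' hin, ?_⟩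
  rintro _ ⟨a, ha, rfl⟩
  obtain ⟨hR, hv⟩ := h' _ ⟨a, ha, rfl⟩
  have hval : conjHom S ((g.2 : Ω))⁻¹ ((MulAut.conj g a).2) = (a.2 : Ω) := by
    simp [conjHom, mul_assoc]
  have hmem : ((MulAut.conj g a).2 : Ω) ∈ R'' := by
    refine ⟨(MulAut.conj g a).2, ?_, rfl⟩
    show conjHom S ((g.2 : Ω))⁻¹ ((MulAut.conj g a).2) ∈ R'
    rw [hval]
    simpa using hR
  refine ⟨hmem, ?_⟩
  refine Eq.trans ?_ (hv.trans ?_)
  · refine congrArg θ' (Subtype.ext ?_)
    show conjHom S ((g.2 : Ω))⁻¹ ((MulAut.conj g a).2) = _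
    rw [hval]
    simp
  · simp

/-- A finite `S × S`-action with admissible stabilizers, a point with diagonal stabilizer, and marks
on admissible subgroups depending only on the order. -/
theorem exists_balanced_biset [Finite S] :
    ∃ (X : Type u) (_ : Finite X) (_ : MulAction (S × S) X),
      (∀ x : X, Adm F (MulAction.stabilizer (S × S) x)) ∧
      (∃ x : X, MulAction.stabilizer (S × S) x = ((MonoidHom.id S).prod (MonoidHom.id S)).range) ∧
      ∀ A B : Subgroup (S × S), Adm F A → Adm F B → Nat.card A = Nat.card B → mark X A = mark X B := by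
  have h0 : Adm F ((MonoidHom.id S).prod (MonoidHom.id S)).range := by
    refine ⟨S, conjHom S 1, F.conj_mem le_rfl S.one_mem, ?_⟩
    rintro _ ⟨x, rfl⟩
    exact ⟨x.2, by simp [conjHom]⟩
  obtain ⟨X, i1, i2, h1, h2, h3⟩ :=
    exists_balanced (S × S) {A | Adm F A} (fun A hA g => Adm.conj hA g) _ h0
  exact ⟨X, i1, i2, h1, h2, fun A B hA hB => h3 A hA B hB⟩

variable (F)

/-- Every fusion system over a finite group is realized by a finite group. -/
theorem exists_realizedBy [Finite S] :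
    ∃ (G : Type u) (_ : Group G) (_ : Finite G) (ι : S →* G), F.IsRealizedBy ι := by
  classical
  obtain ⟨X, iX, aX, hst, ⟨x₀, hx₀⟩, hbal⟩ := exists_balanced_biset (F := F)
  let L : S →* Equiv.Perm X := (MulAction.toPermHom (S × S) X).comp (MonoidHom.inl S S)
  let R : S →* Equiv.Perm X := (MulAction.toPermHom (S × S) X).comp (MonoidHom.inr S S)
  let G : Subgroup (Equiv.Perm X) := Subgroup.centralizer (R.range : Set (Equiv.Perm X))
  have hL : ∀ s : S, L s ∈ G := by
    intro s
    rw [Subgroup.mem_centralizer_iff]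
    rintro _ ⟨t, rfl⟩
    ext x
    simp [L, R, ← mul_smul]
  let ι : S →* G := L.codRestrict G hL
  have hιapp : ∀ (s : S) (x : X), ((ι s : G) : Equiv.Perm X) x = ((s, 1) : S × S) • x := fun s x => rfl
  have hgcomm : ∀ (g : G) (t : S) (x : X),
      (g : Equiv.Perm X) (((1, t) : S × S) • x) = ((1, t) : S × S) • (g : Equiv.Perm X) x := by
    intro g t x
    exact (congrArg (fun e : Equiv.Perm X => e x)
      (Subgroup.mem_centralizer_iff.1 g.2 (R t) ⟨t, rfl⟩)).symm
  have hdiag : ∀ s : S, ((s, s) : S × S) • x₀ = x₀ := by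
    intro s
    rw [← MulAction.mem_stabilizer_iff, hx₀]
    exact ⟨s, rfl⟩
  refine ⟨G, inferInstance, inferInstance, ι, ?_, ?_⟩
  · refine (injective_iff_map_eq_one ι).2 fun s hs => ?_
    have h1 : ((s, 1) : S × S) ∈ MulAction.stabilizer (S × S) x₀ := by
      rw [MulAction.mem_stabilizer_iff, ← hιapp, hs]
      rfl
    rw [hx₀] at h1
    obtain ⟨t, ht⟩ := h1
    simp at ht
    exact ht.1.symm.trans ht.2
  · intro P hP φ hφ
    constructor
    · intro hmem
      let α₁ : P × S →* S × S := (Subgroup.inclusion hP).prodMap (MonoidHom.id S)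
      let α₂ : P × S →* S × S := (φ.codRestrict S hφ).prodMap (MonoidHom.id S)
      have hi₁ : Function.Injective α₁ := by
        rintro ⟨a, b⟩ ⟨c, d⟩ h
        simp [α₁, Subgroup.inclusion_inj] at h
        simp [h.1, h.2]
      have hi₂ : Function.Injective α₂ := by
        rintro ⟨a, b⟩ ⟨c, d⟩ h
        simp only [α₂, MonoidHom.prodMap_def, MonoidHom.prod_apply, Prod.mk.injEq] at h
        have := F.injective_of_mem hmem (congrArg Subtype.val h.1)
        exact Prod.ext this h.2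
      obtain ⟨ψ, hψ, hψv⟩ := F.inv_mem hmem
      let act₁ : MulAction (P × S) X := MulAction.compHom X α₁
      let act₂ : MulAction (P × S) X := MulAction.compHom X α₂
      have hiff : ∀ V : Subgroup (P × S), Adm F (V.map α₁) ↔ Adm F (V.map α₂) := by
        intro V
        constructor
        · intro h
          refine Adm.push h hmem ?_
          rintro _ ⟨v, hv, rfl⟩
          exact ⟨α₁ v, ⟨v, hv, rfl⟩, rfl, v.1.2, rfl⟩
        · intro h
          refine Adm.push h hψ ?_
          rintro _ ⟨v, hv, rfl⟩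
          exact ⟨α₂ v, ⟨v, hv, rfl⟩, rfl, ⟨v.1, rfl⟩, hψv v.1⟩
      have hzero : ∀ A : Subgroup (S × S), ¬ Adm F A → mark X A = 0 := by
        intro A hA
        have : IsEmpty {x : X // A ≤ MulAction.stabilizer (S × S) x} :=
          ⟨fun x => hA ((hst x.1).mono x.2)⟩
        exact Nat.card_of_isEmpty
      have hmarks : ∀ V : Subgroup (P × S), mark X (V.map α₁) = mark X (V.map α₂) := by
        intro V
        by_cases h : Adm F (V.map α₁)
        · refine hbal _ _ h ((hiff V).1 h) ?_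
          rw [Subgroup.card_map_of_injective hi₁, Subgroup.card_map_of_injective hi₂]
        · rw [hzero _ h, hzero _ (fun h' => h ((hiff V).2 h'))]
      have hm₁ : ∀ V : Subgroup (P × S), @mark _ _ X act₁ V = mark X (V.map α₁) := by
        intro V
        refine Nat.card_congr (Equiv.subtypeEquivRight fun x => ?_)
        rw [Subgroup.map_le_iff_le_comap]
        exact Iff.rfl
      have hm₂ : ∀ V : Subgroup (P × S), @mark _ _ X act₂ V = mark X (V.map α₂) := by
        intro V
        refine Nat.card_congr (Equiv.subtypeEquivRight fun x => ?_)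
        rw [Subgroup.map_le_iff_le_comap]
        exact Iff.rfl
      have : Finite P := Finite.of_injective _ (Subgroup.inclusion_injective hP)
      obtain ⟨e, he⟩ := @exists_equiv_of_mark_eq (P × S) _ _ X X act₁ act₂ iX iX
        (fun V => by rw [hm₁, hm₂, hmarks])
      have hright : ∀ (t : S) (x : X), e (((1, t) : S × S) • x) = ((1, t) : S × S) • e x := by
        intro t x
        have h := he (1, t) x
        change e (α₁ (1, t) • x) = α₂ (1, t) • e x at h
        have e1 : α₁ ((1 : P), t) = ((1, t) : S × S)  := by simp [α₁]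
        have e2 : α₂ ((1 : P), t) = ((1, t) : S × S) := by simp [α₂]
        rwa [e1, e2] at h
      have heG : e ∈ G := by
        rw [Subgroup.mem_centralizer_iff]
        rintro _ ⟨t, rfl⟩
        ext x
        exact (hright t x).symm
      refine ⟨⟨e, heG⟩, fun x => ?_⟩
      rw [eq_mul_inv_iff_mul_eq]
      apply Subtype.ext
      ext z
      have h := he (x, 1) z
      change e (α₁ (x, 1) • z) = α₂ (x, 1) • e z at h
      exact h.symm
    · rintro ⟨g, hg⟩
      obtain ⟨R', θ, hθ, hθy⟩ := hst ((g : Equiv.Perm X) x₀)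
      have hfix : ∀ x : P, ((⟨φ x, hφ x⟩, ⟨x, hP x.2⟩) : S × S) ∈
          MulAction.stabilizer (S × S) ((g : Equiv.Perm X) x₀) := by
        intro x
        have h1 := congrArg (fun e : G => (e : Equiv.Perm X) ((g : Equiv.Perm X) x₀)) (hg x)
        simp only [Subgroup.coe_mul, Subgroup.coe_inv, Equiv.Perm.mul_apply, Equiv.Perm.coe_inv,
          Equiv.symm_apply_apply, hιapp] at h1
        rw [MulAction.mem_stabilizer_iff]
        calc ((⟨φ x, hφ x⟩, ⟨x, hP x.2⟩) : S × S) • (g : Equiv.Perm X) x₀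
            = ((1, ⟨x, hP x.2⟩) : S × S) • ((⟨φ x, hφ x⟩, 1) : S × S) • (g : Equiv.Perm X) x₀ := by
              rw [← mul_smul]; simp
          _ = (g : Equiv.Perm X) (((1, ⟨x, hP x.2⟩) : S × S) • ((⟨x, hP x.2⟩, 1) : S × S) • x₀) := by
              rw [h1, ← hgcomm]
          _ = (g : Equiv.Perm X) x₀ := by
              rw [← mul_smul]
              simpa using congrArg (g : Equiv.Perm X) (hdiag ⟨x, hP x.2⟩)
      have hPR : P ≤ R' := fun x hx => (hθy _ (hfix ⟨x, hx⟩)).1
      convert restrict_mem F hθ hPR using 1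
      ext x
      exact ((hθy _ (hfix x)).2).symm

end CfsgLib.FusionBiset
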