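import Cfsg.Agent.FusionBiset.Realize
import Cfsg.Agent.FusionBiset.Congruence
import Cfsg.Agent.Fusion.Saturation

/-!
For a saturated fusion system `F` over a finite `p`-group `S` there is a left `F`-stable `S`-`S`-biset
with admissible stabilizers and `|X|/|S|` prime to `p`.
-/

set_option autoImplicit false

namespace CfsgLib.FusionBiset

open Cfsg Cfsg.FusionSystem CfsgLib.Fusion

universe u

variable {Ω : Type u} [Group Ω] {S : Subgroup Ω} {F : FusionSystem S}

/-- The second coordinates of a subgroup of `S × S`. -/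
abbrev sndImage (A : Subgroup (S × S)) : Subgroup S := A.map (MonoidHom.snd S S)

/-- `A` and `B` have conjugate second projections. -/
def SndConj (A B : Subgroup (S × S)) : Prop :=
  ∃ t : S, (sndImage A).map (MulAut.conj t).toMonoidHom = sndImage B

theorem sndConj_equivalence : Equivalence (SndConj (S := S)) := by
  refine ⟨fun A => ⟨1, by ext x; simp⟩, fun {A B} ⟨t, ht⟩ => ⟨t⁻¹, ?_⟩,
    fun {A B C} ⟨t, ht⟩ ⟨t', ht'⟩ => ⟨t' * t, ?_⟩⟩
  · rw [← ht, Subgroup.map_map]
    convert Subgroup.map_id (sndImage A) using 2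
    ext x; simp [mul_assoc]
  · rw [← ht', ← ht]
    simp only [Subgroup.map_map]
    congr 1
    ext x; simp [mul_assoc]

theorem sndImage_conj (A : Subgroup (S × S)) (g : S × S) :
    sndImage (A.map (MulAut.conj g).toMonoidHom) = (sndImage A).map (MulAut.conj g.2).toMonoidHom := by
  simp only [sndImage, Subgroup.map_map]
  rfl

/-- On an admissible subgroup the second coordinate determines the first. -/
theorem Adm.snd_injective {A : Subgroup (S × S)} (h : Adm F A) :
    Function.Injective fun a : A => (a : S × S).2 := by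
  obtain ⟨R, θ, -, hv⟩ := h
  intro a b hab
  obtain ⟨ha, ha'⟩ := hv a a.2
  obtain ⟨hb, hb'⟩ := hv b b.2
  refine Subtype.ext (Prod.ext (Subtype.ext ?_) hab)
  rw [← ha', ← hb']
  have hab' : (a : S × S).2 = (b : S × S).2 := hab
  refine congrArg θ (Subtype.ext ?_)
  show (((a : S × S).2 : S) : Ω) = (((b : S × S).2 : S) : Ω)
  rw [hab']

theorem Adm.card_sndImage {A : Subgroup (S × S)} (h : Adm F A) :
    Nat.card (sndImage A) = Nat.card A := by
  refine (Nat.card_congr (Equiv.ofBijective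
    (fun a : A => (⟨(a : S × S).2, a, a.2, rfl⟩ : sndImage A)) ⟨?_, ?_⟩)).symm
  · exact fun a b hab => h.snd_injective (congrArg Subtype.val hab :)
  · rintro ⟨_, a, ha, rfl⟩
    exact ⟨⟨a, ha⟩, rfl⟩

theorem Adm.card_le [Finite S] {A : Subgroup (S × S)} (h : Adm F A) : Nat.card A ≤ Nat.card S :=
  Nat.card_le_card_of_injective _ h.snd_injective

/-- An admissible subgroup as the exact graph of a map. -/
theorem Adm.exists_exact {A : Subgroup (S × S)} (h : Adm F A) :
    ∃ θ : ((sndImage A).map S.subtype : Subgroup Ω) →* Ω, θ ∈ F.Hom _ ∧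
      ∀ a : S × S, a ∈ A ↔ ∃ ha : (a.2 : Ω) ∈ (sndImage A).map S.subtype, θ ⟨a.2, ha⟩ = a.1 := by
  obtain ⟨R, θ, hθ, hv⟩ := h
  have hle : (sndImage A).map S.subtype ≤ R := by
    rintro _ ⟨_, ⟨a, ha, rfl⟩, rfl⟩
    exact (hv a ha).1
  refine ⟨_, Fusion.restrict_mem hθ hle, fun a => ⟨fun ha => ?_, fun ⟨ha, hθa⟩ => ?_⟩⟩
  · exact ⟨⟨a.2, ⟨a, ha, rfl⟩, rfl⟩, (hv a ha).2⟩
  · obtain ⟨s, ⟨b, hb, hbs⟩, hsa⟩ := ha
    have hsnd : b.2 = a.2 := hbs.trans (Subtype.ext hsa)
    have : b = a := by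
      refine Prod.ext (Subtype.ext ?_) hsnd
      rw [← (hv b hb).2, ← hθa]
      refine congrArg θ (Subtype.ext ?_)
      show ((b.2 : S) : Ω) = ((a.2 : S) : Ω)
      rw [hsnd]
    exact this ▸ hb

/-- The graph of an automorphism of `S`. -/
def autGraph (α : MulAut S) : Subgroup (S × S) :=
  (α.toMonoidHom.prod (MonoidHom.id S)).range

theorem mem_autGraph {α : MulAut S} {a : S × S} : a ∈ autGraph α ↔ a.1 = α a.2 := by
  refine ⟨?_, fun h => ⟨a.2, Prod.ext h.symm rfl⟩⟩
  rintro ⟨x, rfl⟩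
  rfl

theorem card_autGraph (α : MulAut S) : Nat.card (autGraph α) = Nat.card S :=
  (Nat.card_congr (MonoidHom.ofInjective (f := α.toMonoidHom.prod (MonoidHom.id S))
    fun a b h => congrArg Prod.snd h).toEquiv).symm

theorem adm_autGraph {α : MulAut S} (hα : α ∈ F.autGroup S) : Adm F (autGraph α) :=
  ⟨S, _, (mem_autGroup_iff le_rfl).1 hα, fun a ha => ⟨a.2.2, by
    rw [mem_autGraph.1 ha]; rfl⟩⟩

theorem map_conj_autGraph (α : MulAut S) (g : S × S) :
    (autGraph α).map (MulAut.conj g).toMonoidHom =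
      autGraph (MulAut.conj g.1 * α * (MulAut.conj g.2)⁻¹) := by
  ext a
  rw [mem_autGraph]
  constructor
  · rintro ⟨b, hb, rfl⟩
    simp [mem_autGraph.1 hb, mul_assoc]
  · intro ha
    refine ⟨(α (g.2⁻¹ * a.2 * g.2), g.2⁻¹ * a.2 * g.2), mem_autGraph.2 rfl, Prod.ext ?_ ?_⟩
    · simp [ha]
    · simp [mul_assoc]

theorem autGraph_injective {α β : MulAut S} (h : autGraph α = autGraph β) : α = β := by
  refine MulEquiv.ext fun x => ?_
  have h1 : (α x, x) ∈ autGraph α := mem_autGraph.2 rfl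
  rw [h] at h1
  exact mem_autGraph.1 h1

theorem weight_map_equiv {K : Type*} [Group K] [Finite K] (e : K ≃* K) (A : Subgroup K) :
    weight (A.map e.toMonoidHom) = weight A := by
  have h1 := card_mul_weight (A.map e.toMonoidHom)
  rw [← Subgroup.map_equiv_normalizer_eq, Subgroup.card_map_of_injective e.injective,
    Subgroup.card_map_of_injective e.injective, ← card_mul_weight A] at h1
  exact Nat.eq_of_mul_eq_mul_left Nat.card_pos h1

theorem weight_autGraph [Finite S] (α : MulAut S) : weight (autGraph α) = weight (autGraph (1 : MulAut S)) := by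
  rw [← weight_map_equiv (MulEquiv.prodCongr α (MulEquiv.refl S)) (autGraph (1 : MulAut S))]
  congr 1
  ext a
  rw [mem_autGraph]
  constructor
  · intro ha
    exact ⟨(a.2, a.2), mem_autGraph.2 rfl, Prod.ext ha.symm rfl⟩
  · rintro ⟨b, hb, rfl⟩
    have hb' : b.1 = b.2 := mem_autGraph.1 hb
    show α b.1 = α b.2
    rw [hb']

/-- **Existence of a left stable biset** for a saturated system, of degree prime to `p`. -/
theorem exists_stable_biset [Finite S] {p : ℕ} [Fact p.Prime] (hS : IsPGroup p S)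
    (hF : F.IsSaturated p) :
    ∃ (X : Type u) (_ : Finite X) (_ : MulAction (S × S) X),
      (∀ x : X, Adm F (MulAction.stabilizer (S × S) x)) ∧
      (∀ A B : Subgroup (S × S), Adm F A → Adm F B → SndConj A B → mark X A = mark X B) ∧
      ∃ k : ℕ, ¬ p ∣ k ∧ Nat.card X = Nat.card S * k := by
  classical
  have hsurjS : ∀ A : Subgroup (S × S), Adm F A → Nat.card S ≤ Nat.card A →
      ∃ α ∈ F.autGroup S, A = autGraph α := by
    intro A hA hcard
    obtain ⟨θ, hθ, hmem⟩ := hA.exists_exact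
    have htop : sndImage A = ⊤ :=
      Subgroup.eq_top_of_card_eq _ (le_antisymm (Subgroup.card_le_card_group _)
        (hA.card_sndImage.symm ▸ hcard))
    have hP : (sndImage A).map S.subtype = S := by
      rw [htop, ← MonoidHom.range_eq_map, Subgroup.range_subtype]
    have hle : S ≤ (sndImage A).map S.subtype := hP.ge
    have hθS := Fusion.restrict_mem hθ hle
    obtain ⟨α, hα, hαv⟩ := exists_iso hθS (eq_S_of_isConj ⟨_, hθS, rfl⟩)
    refine ⟨α, hα.mem_autGroup, Subgroup.ext fun a => ?_⟩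
    rw [hmem, mem_autGraph]
    constructor
    · rintro ⟨ha, h⟩
      refine Subtype.ext ?_
      rw [hαv, ← h]
      rfl
    · intro h
      refine ⟨hle a.2.2, ?_⟩
      rw [h, hαv]
      rfl
  let I := (Inn S).subgroupOf (F.autGroup S)
  have : Finite (F.autGroup S) := inferInstance
  have : Fintype (F.autGroup S ⧸ I) := Fintype.ofFinite _
  let X₀ : Type u := Σ q : F.autGroup S ⧸ I, (S × S) ⧸ autGraph (q.out : MulAut S)
  have hst₀ : ∀ x : X₀, Adm F (MulAction.stabilizer (S × S) x) := by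
    rintro ⟨q, c⟩
    rw [stabilizer_sigma_mk]
    induction c using QuotientGroup.induction_on with
    | _ g =>
      rw [show ((g : (S × S) ⧸ autGraph (q.out : MulAut S))) =
        g • (((1 : S × S) : (S × S) ⧸ autGraph (q.out : MulAut S))) by simp,
        MulAction.stabilizer_smul_eq_stabilizer_map_conj, MulAction.stabilizer_quotient]
      exact (adm_autGraph q.out.2).conj g
  have hmark₀ : ∀ β : F.autGroup S, mark X₀ (autGraph (β : MulAut S)) = weight (autGraph (1 : MulAut S)) := by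
    intro β
    rw [mark_sigma, Finset.sum_eq_single (β : F.autGroup S ⧸ I)]
    · obtain ⟨w, hw⟩ : ∃ w : S, (MulAut.conj w : MulAut S) =
          ((((β : F.autGroup S ⧸ I).out)⁻¹ * β : F.autGroup S) : MulAut S) :=
        (QuotientGroup.eq (s := I)).1 (QuotientGroup.out_eq' (β : F.autGroup S ⧸ I))
      have hconj : (autGraph (((β : F.autGroup S ⧸ I).out : MulAut S))).map
          (MulAut.conj ((1, w⁻¹) : S × S)).toMonoidHom = autGraph (β : MulAut S) := by
        rw [map_conj_autGraph, map_one, map_inv, inv_inv, one_mul, hw]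
        simp [← mul_assoc]
      rw [← hconj, mark_conj]
      exact weight_autGraph _
    · intro q _ hne
      have : IsEmpty {x : (S × S) ⧸ autGraph (q.out : MulAut S) //
          autGraph (β : MulAut S) ≤ MulAction.stabilizer (S × S) x} := by
        refine ⟨fun x => hne ?_⟩
        obtain ⟨x, hx⟩ := x
        induction x using QuotientGroup.induction_on with
        | _ g =>
          rw [show ((g : (S × S) ⧸ autGraph (q.out : MulAut S))) =
            g • (((1 : S × S) : (S × S) ⧸ autGraph (q.out : MulAut S))) by simp,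
            MulAction.stabilizer_smul_eq_stabilizer_map_conj, MulAction.stabilizer_quotient,
            map_conj_autGraph] at hx
          have heq := autGraph_injective (Subgroup.eq_of_le_of_card_ge hx
            (by rw [card_autGraph, card_autGraph]))
          rw [← QuotientGroup.out_eq' q]
          refine QuotientGroup.eq.2 ((?_ : ((q.out⁻¹ * β : F.autGroup S) : MulAut S) ∈ Inn S))
          have h1 : ((q.out⁻¹ * β : F.autGroup S) : MulAut S) =
              (q.out : MulAut S)⁻¹ * MulAut.conj g.1 * q.out * (MulAut.conj g.2)⁻¹ := by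
            simp [heq, mul_assoc]
          rw [h1]
          exact mul_mem (by simpa using (innNormal S).conj_mem _ ⟨g.1, rfl⟩ (q.out : MulAut S)⁻¹)
            (inv_mem ⟨g.2, rfl⟩)
      exact Nat.card_of_isEmpty
    · exact fun h => absurd (Finset.mem_univ _) h
  refine (fun h => ?_) (exists_completion {A | Adm F A} SndConj sndConj_equivalence
    (fun A g => ⟨g.2, (sndImage_conj A g).symm⟩)
    (fun A hA B hB ⟨t, ht⟩ => by
      rw [← Adm.card_sndImage hA, ← Adm.card_sndImage hB, ← ht]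
      exact (Subgroup.card_map_of_injective (K := sndImage A) (f := (MulAut.conj t).toMonoidHom)
        (MulAut.conj t).injective).symm)
    (fun A hA g => Adm.conj hA g) (fun A hA B hB => Adm.mono hA hB) (Nat.card S) ?_ X₀ hst₀ ?_)
  · obtain ⟨X, i1, i2, hst, hbal, hcard⟩ := h
    refine ⟨X, i1, i2, hst, fun A B hA hB => hbal A hA B hB, ?_⟩
    obtain ⟨n, hn⟩ := hS.exists_card_eq
    have hX₀ : Nat.card X₀ = Nat.card S * I.index := by
      have hidx : ∀ α : MulAut S, (autGraph α).index = Nat.card S := fun α =>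
        Nat.eq_of_mul_eq_mul_left Nat.card_pos
          (Subgroup.card_mul_index (autGraph α) |>.trans (by rw [Nat.card_prod, card_autGraph]))
      rw [Nat.card_sigma, Finset.sum_congr rfl fun q _ =>
        (Subgroup.index_eq_card _).symm.trans (hidx _)]
      rw [Finset.sum_const, Finset.card_univ, smul_eq_mul, mul_comm, Subgroup.index_eq_card,
        Nat.card_eq_fintype_card (α := F.autGroup S ⧸ I)]
    have hmod := hcard (Nat.card S * p) fun A hA hlt => by
      have h1 := Subgroup.card_mul_index A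
      rw [Nat.card_prod] at h1
      obtain ⟨i, hi, hiA⟩ := (Nat.dvd_prime_pow (Fact.out : p.Prime)).1
        (hn ▸ Adm.card_sndImage hA ▸ Subgroup.card_subgroup_dvd_card (sndImage A) :
          Nat.card A ∣ p ^ n)
      rw [hiA, hn] at h1 hlt
      have hlt' : i < n := (Nat.pow_lt_pow_iff_right (Fact.out : p.Prime).one_lt).1 hlt
      have : A.index = p ^ (2 * n - i) := by
        refine Nat.eq_of_mul_eq_mul_left (pow_pos (Fact.out : p.Prime).pos i) ?_
        rw [h1, ← pow_add, ← pow_add]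
        congr 1
        omega
      rw [this, hn, ← pow_succ]
      exact pow_dvd_pow p (by omega)
    rw [hX₀] at hmod
    obtain ⟨k, hk⟩ : Nat.card S ∣ Nat.card X := by
      have h2 := (hmod.of_mul_right p : Nat.card X ≡ Nat.card S * I.index [MOD Nat.card S])
      exact (h2.dvd_iff dvd_rfl).2 (dvd_mul_right _ _)
    refine ⟨k, fun hpk => ?_, hk⟩
    rw [hk] at hmod
    have h3 : k ≡ I.index [MOD p] := Nat.ModEq.mul_left_cancel' Nat.card_pos.ne' hmod
    have hp : ¬ p ∣ I.index := by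
      obtain ⟨T, hT⟩ := (automized_receptive hS hF isFullyNormalized_self).1.2
      have : (T : Subgroup (F.autGroup S)) = I := by rw [hT, ← Inn_eq S]
      rw [← this]
      exact T.not_dvd_index
    exact hp ((h3.dvd_iff dvd_rfl).1 hpk)
  · -- reference subgroups
    intro A hA _
    set P : Subgroup Ω := (sndImage A).map S.subtype with hPdef
    have hPS : P ≤ S := Subgroup.map_subtype_le _
    obtain ⟨Q, hPQ, hQ⟩ := exists_fullyNormalized (F := F) hPS
    obtain ⟨hQa, hQr⟩ := automized_receptive hS hF hQ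
    obtain ⟨χ, hχ, hχmem, hχimg⟩ := exists_map_normalizerIn hS hQa hQr hPQ
    have hPN : P ≤ normalizerIn S P := le_normalizerIn hPS
    let ν : sndImage A →* S × S :=
      ((χ.comp ((Subgroup.inclusion hPN).comp
        ((S.subtype.comp (sndImage A).subtype).codRestrict P fun x => ⟨x, x.2, rfl⟩))).codRestrict S
          fun x => apply_mem hχ _).prod (sndImage A).subtype
    have hν : ∀ x : sndImage A, (((ν x).1 : S) : Ω) = χ ⟨(x : S), hPN ⟨x, x.2, rfl⟩⟩ := fun x => rfl
    have hA₀ : Adm F ν.range := by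
      refine ⟨normalizerIn S P, χ, hχ, ?_⟩
      rintro _ ⟨x, rfl⟩
      exact ⟨hPN ⟨x, x.2, rfl⟩, (hν x).symm⟩
    have hsnd₀ : sndImage ν.range = sndImage A := by
      ext x
      refine ⟨?_, fun hx => ⟨ν ⟨x, hx⟩, ⟨_, rfl⟩, rfl⟩⟩
      rintro ⟨_, ⟨y, rfl⟩, rfl⟩
      exact y.2
    refine ⟨ν.range, hA₀, ⟨1, by rw [hsnd₀]; ext x; simp⟩, fun B hB ⟨t, ht⟩ => ?_⟩
    refine ⟨((1, t⁻¹) : S × S), ?_⟩
    set B' := B.map (MulAut.conj ((1, t⁻¹) : S × S)).toMonoidHom with hB'def
    have hB' : Adm F B' := hB.conj _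
    have hsnd' : sndImage B' = sndImage A := by
      rw [hB'def, sndImage_conj, ← ht, Subgroup.map_map]
      convert Subgroup.map_id (sndImage A) using 2
      ext x; simp [mul_assoc]
    obtain ⟨θ₀, hθ₀, hmem₀⟩ := hB'.exists_exact
    have hP' : P ≤ (sndImage B').map S.subtype := by rw [hsnd']
    set θ := restrictHom θ₀ hP' with hθdef
    have hθ : θ ∈ F.Hom P := Fusion.restrict_mem hθ₀ hP'
    have hmem : ∀ a : S × S, a ∈ B' ↔ ∃ ha : (a.2 : Ω) ∈ P, θ ⟨a.2, ha⟩ = a.1 := by
      intro a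
      rw [hmem₀]
      exact ⟨fun ⟨ha, h⟩ => ⟨by rwa [hPdef, ← hsnd'], h⟩, fun ⟨ha, h⟩ => ⟨hP' ha, h⟩⟩
    obtain ⟨f, hf, hfv⟩ := exists_iso_range hθ
    obtain ⟨e₀, he₀, he₀v⟩ := exists_iso (Fusion.restrict_mem hχ hPN)
      ((range_restrictHom χ _).trans hχimg)
    set N := Subgroup.normalizer (B' : Set (S × S)) with hN
    let T : Subgroup Ω := (N.map (MonoidHom.fst S S)).map S.subtype
    have hbN : ∀ a ∈ N, ∀ x : P, (a.2 : Ω) * x * (a.2 : Ω)⁻¹ ∈ P ∧
        ∀ h : (a.2 : Ω) * x * (a.2 : Ω)⁻¹ ∈ P,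
          θ ⟨_, h⟩ = (a.1 : Ω) * θ x * (a.1 : Ω)⁻¹ := by
      intro a ha x
      have hx : ((⟨θ x, apply_mem hθ x⟩, ⟨x, hPS x.2⟩) : S × S) ∈ B' := (hmem _).2 ⟨x.2, rfl⟩
      obtain ⟨h1, h2⟩ := (hmem _).1 ((Subgroup.mem_normalizer_iff.1 ha _).1 hx)
      exact ⟨h1, fun h => h2⟩
    have hTle : T ≤ extender S θ.range (Q.subtype.comp (f.symm.trans e₀).toMonoidHom) := by
      rintro _ ⟨_, ⟨a, ha, rfl⟩, rfl⟩
      have hb2 : (a.2 : Ω) ∈ normalizerIn S P := by
        have hfP := finite_of_le hPS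
        exact ⟨a.2.2, Subgroup.mem_normalizer_fintype fun n hn => (hbN a ha ⟨n, hn⟩).1⟩
      refine mem_extender_iff.2 ⟨a.1.2, ?_, χ ⟨a.2, hb2⟩, apply_mem hχ _, ?_⟩
      · have hfr := finite_of_le (range_le hθ)
        refine Subgroup.mem_normalizer_fintype ?_
        rintro _ ⟨x, rfl⟩
        exact ⟨⟨_, (hbN a ha x).1⟩, (hbN a ha x).2 _⟩
      · intro y hy
        obtain ⟨x, rfl⟩ := f.surjective y
        obtain ⟨h1, h2⟩ := hbN a ha x
        have hy' : (a.1 : Ω) * (f x : Ω) * (a.1 : Ω)⁻¹ ∈ θ.range := hy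
        have e1 : (⟨(a.1 : Ω) * (f x : Ω) * (a.1 : Ω)⁻¹, hy'⟩ : θ.range) = f ⟨_, h1⟩ := by
          refine Subtype.ext ?_
          show (a.1 : Ω) * (f x : Ω) * (a.1 : Ω)⁻¹ = (f ⟨_, h1⟩ : Ω)
          rw [hfv, hfv, h2 h1]
        show (e₀ (f.symm ⟨(a.1 : Ω) * (f x : Ω) * (a.1 : Ω)⁻¹, hy'⟩) : Ω) =
          χ ⟨a.2, hb2⟩ * (e₀ (f.symm (f x)) : Ω) * _
        rw [e1, MulEquiv.symm_apply_apply, MulEquiv.symm_apply_apply, he₀v, he₀v,
          restrictHom_apply, restrictHom_apply, ← map_inv, ← map_mul, ← map_mul]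
        rfl
    obtain ⟨ψ, hψ, hψv⟩ := exists_extension hQr (hf.symm.trans he₀) hTle
    let Φ : N →* S × S :=
      ((ψ.comp ((S.subtype.comp ((MonoidHom.fst S S).comp N.subtype)).codRestrict T
        fun n => ⟨(n : S × S).1, ⟨n, n.2, rfl⟩, rfl⟩)).codRestrict S fun n => apply_mem hψ _).prod
          ((MonoidHom.snd S S).comp N.subtype)
    have hΦ2 : ∀ n : N, (Φ n).2 = (n : S × S).2 := fun n => rfl
    have hΦ1 : ∀ n : N, ((Φ n).1 : Ω) = ψ ⟨((n : S × S).1 : Ω), (n : S × S).1, ⟨n, n.2, rfl⟩, rfl⟩ :=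
      fun n => rfl
    refine ⟨Φ, ?_, ?_, fun V _ => ?_⟩
    · intro n n' h
      refine Subtype.ext (Prod.ext (Subtype.ext ?_) ((hΦ2 n).symm.trans ((congrArg Prod.snd h).trans (hΦ2 n'))))
      have h1 := congrArg (fun z : S × S => (z.1 : Ω)) h
      simp only [hΦ1] at h1
      exact congrArg (fun z : T => (z : Ω)) (F.injective_of_mem hψ h1)
    · ext z
      constructor
      · rintro ⟨n, hn, rfl⟩
        obtain ⟨hx, hθx⟩ := (hmem n).1 hn
        have hx' : (n : S × S).2 ∈ sndImage A := by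
          obtain ⟨s, hs, hsn⟩ := hx
          exact (Subtype.ext hsn : s = (n : S × S).2) ▸ hs
        refine ⟨⟨(n : S × S).2, hx'⟩, Prod.ext (Subtype.ext ?_) rfl⟩
        rw [hν, hΦ1]
        have h1 := hψv (f ⟨((n : S × S).2 : Ω), hx⟩)
          (by rw [hfv, hθx]; exact ⟨_, ⟨n, n.2, rfl⟩, rfl⟩)
        simp only [MulEquiv.trans_apply, MulEquiv.symm_apply_apply, he₀v, restrictHom_apply] at h1
        rw [← h1]
        exact congrArg ψ (Subtype.ext ((hfv _).trans hθx))
      · rintro ⟨x, rfl⟩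
        have hx : ((x : S) : Ω) ∈ P := ⟨x, x.2, rfl⟩
        have hn : ((⟨θ ⟨_, hx⟩, apply_mem hθ _⟩, (x : S)) : S × S) ∈ B' := (hmem _).2 ⟨hx, rfl⟩
        refine ⟨⟨_, Subgroup.le_normalizer hn⟩, hn, Prod.ext (Subtype.ext ?_) rfl⟩
        rw [hΦ1, hν]
        have h1 := hψv (f ⟨_, hx⟩)
          (by rw [hfv]; exact ⟨_, ⟨_, Subgroup.le_normalizer hn, rfl⟩, rfl⟩)
        simp only [MulEquiv.trans_apply, MulEquiv.symm_apply_apply, he₀v, restrictHom_apply] at h1
        rw [← h1]
        exact congrArg ψ (Subtype.ext (hfv _).symm)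
    · have hsnd : sndImage (V.map N.subtype) = sndImage (V.map Φ) := by
        simp only [sndImage, Subgroup.map_map]
        rfl
      refine ⟨⟨fun h => ?_, fun h => ?_⟩, fun _ => ⟨1, by rw [hsnd]; ext x; simp⟩⟩
      · refine Adm.push h hψ ?_
        rintro _ ⟨n, hn, rfl⟩
        exact ⟨n, ⟨n, hn, rfl⟩, rfl, ⟨_, ⟨n, n.2, rfl⟩, rfl⟩, rfl⟩
      · obtain ⟨ψ', hψ', hψ'v⟩ := F.inv_mem hψ
        refine Adm.push h hψ' ?_
        rintro _ ⟨n, hn, rfl⟩
        exact ⟨Φ n, ⟨n, hn, rfl⟩, rfl, ⟨_, (hΦ1 n).symm⟩, hψ'v _⟩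
  · -- the top level
    rintro A hA B hB ⟨t, ht⟩ hcardA
    have hcardB : Nat.card S ≤ Nat.card B := by
      rw [← Adm.card_sndImage hB, ← ht]
      refine le_of_le_of_eq (hcardA.trans_eq (Adm.card_sndImage hA).symm) ?_
      exact (Subgroup.card_map_of_injective (K := sndImage A) (f := (MulAut.conj t).toMonoidHom)
        (MulAut.conj t).injective).symm
    obtain ⟨α, hα, rfl⟩ := hsurjS A hA hcardA
    obtain ⟨β, hβ, rfl⟩ := hsurjS B hB hcardB
    rw [hmark₀ ⟨α, hα⟩, hmark₀ ⟨β, hβ⟩]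

/-- Left stability: a map of the system is realised by a bijection commuting with the right action. -/
theorem exists_stable_perm {X : Type u} [Finite X] [MulAction (S × S) X] [Finite S]
    (hst : ∀ x : X, Adm F (MulAction.stabilizer (S × S) x))
    (hbal : ∀ A B : Subgroup (S × S), Adm F A → Adm F B → SndConj A B → mark X A = mark X B)
    {P : Subgroup Ω} {φ : P →* Ω} (hφ : φ ∈ F.Hom P) :
    ∃ σ : X ≃ X, (∀ (t : S) (z : X), σ (((1, t) : S × S) • z) = ((1, t) : S × S) • σ z) ∧
      ∀ (x : P) (z : X), σ (((⟨x, le_left hφ x.2⟩, 1) : S × S) • z) =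
        ((⟨φ x, apply_mem hφ x⟩, 1) : S × S) • σ z := by
  classical
  have hP := le_left hφ
  let α₁ : P × S →* S × S := (Subgroup.inclusion hP).prodMap (MonoidHom.id S)
  let α₂ : P × S →* S × S := (φ.codRestrict S (apply_mem hφ)).prodMap (MonoidHom.id S)
  obtain ⟨ψ, hψ, hψv⟩ := F.inv_mem hφ
  let act₁ : MulAction (P × S) X := MulAction.compHom X α₁
  let act₂ : MulAction (P × S) X := MulAction.compHom X α₂
  have hzero : ∀ A : Subgroup (S × S), ¬ Adm F A → mark X A = 0 := by
    intro A hA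
    have : IsEmpty {x : X // A ≤ MulAction.stabilizer (S × S) x} :=
      ⟨fun x => hA ((hst x.1).mono x.2)⟩
    exact Nat.card_of_isEmpty
  have hmarks : ∀ V : Subgroup (P × S), mark X (V.map α₁) = mark X (V.map α₂) := by
    intro V
    have hiff : Adm F (V.map α₁) ↔ Adm F (V.map α₂) := by
      constructor
      · intro h
        refine Adm.push h hφ ?_
        rintro _ ⟨v, hv, rfl⟩
        exact ⟨α₁ v, ⟨v, hv, rfl⟩, rfl, v.1.2, rfl⟩
      · intro h
        refine Adm.push h hψ ?_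
        rintro _ ⟨v, hv, rfl⟩
        exact ⟨α₂ v, ⟨v, hv, rfl⟩, rfl, ⟨v.1, rfl⟩, hψv v.1⟩
    by_cases h : Adm F (V.map α₁)
    · refine hbal _ _ h (hiff.1 h) ⟨1, ?_⟩
      have : sndImage (V.map α₁) = sndImage (V.map α₂) := by
        simp only [sndImage, Subgroup.map_map]
        rfl
      rw [this]
      ext x; simp
    · rw [hzero _ h, hzero _ fun h' => h (hiff.2 h')]
  have hm₁ : ∀ V : Subgroup (P × S), @mark _ _ X act₁ V = mark X (V.map α₁) := fun V =>
    Nat.card_congr (Equiv.subtypeEquivRight fun x => by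
      rw [Subgroup.map_le_iff_le_comap]; exact Iff.rfl)
  have hm₂ : ∀ V : Subgroup (P × S), @mark _ _ X act₂ V = mark X (V.map α₂) := fun V =>
    Nat.card_congr (Equiv.subtypeEquivRight fun x => by
      rw [Subgroup.map_le_iff_le_comap]; exact Iff.rfl)
  have : Finite P := finite_of_le hP
  obtain ⟨e, he⟩ := @exists_equiv_of_mark_eq (P × S) _ _ X X act₁ act₂ _ _
    (fun V => by rw [hm₁, hm₂, hmarks])
  refine ⟨e, fun t z => ?_, fun x z => ?_⟩
  · have h := he (1, t) z
    change e (α₁ (1, t) • z) = α₂ (1, t) • e z at h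
    have e1 : α₁ ((1 : P), t) = ((1, t) : S × S) := by simp [α₁]
    have e2 : α₂ ((1 : P), t) = ((1, t) : S × S) := by simp [α₂]
    rwa [e1, e2] at h
  · exact he (x, 1) z

end CfsgLib.FusionBiset
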