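import Cfsg.Agent.FusionBiset.Saturated
import Cfsg.Prelude.Def_FusionSystem
import Cfsg.Agent.FusionFactor.Elementary
import Mathlib.GroupTheory.Abelianization.Defs
import Mathlib.Tactic.Abel

/-!
The transfer `S → S/S'` of a left stable biset, and `foc(F) ∩ Z(F) = S' ∩ Z(F)`.
-/

set_option autoImplicit false

namespace CfsgLib.FusionBiset

open Cfsg Cfsg.FusionSystem CfsgLib.Fusion
open scoped commutatorElement

universe u

theorem comm_cancel {A : Type*} [CommGroup A] (c a b : A) : c * a * (c * b)⁻¹ = a * b⁻¹ := by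
  rw [mul_inv, mul_mul_mul_comm, mul_inv_cancel, one_mul]

theorem comm_change {A : Type*} [CommGroup A] (a b a' b' : A) :
    a' * b'⁻¹ = a * b⁻¹ * (a' * a⁻¹ * (b' * b⁻¹)⁻¹) := by
  apply Additive.ofMul.injective
  simp only [ofMul_mul, ofMul_inv]
  abel

/-- An equivariant function for an action whose stabilizers lie in the kernel. -/
theorem exists_equivariant {K X A : Type*} [Group K] [MulAction K X] [CommGroup A] (χ : K →* A)
    (h : ∀ x : X, MulAction.stabilizer K x ≤ χ.ker) :
    ∃ D : X → A, ∀ (k : K) (x : X), D (k • x) = χ k * D x := by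
  classical
  have hrep : ∀ x : X, ∃ k : K, k • (Quotient.out (Quotient.mk (MulAction.orbitRel K X) x)) = x :=
    fun x => (MulAction.orbitRel_apply.1
      ((MulAction.orbitRel K X).symm' (Quotient.mk_out (s := MulAction.orbitRel K X) x)) :)
  choose c hc using hrep
  refine ⟨fun x => χ (c x), fun k x => ?_⟩
  have hq : Quotient.mk (MulAction.orbitRel K X) (k • x) = Quotient.mk (MulAction.orbitRel K X) x :=
    Quotient.sound (MulAction.mem_orbit x k)
  have h1 := hc (k • x)
  rw [hq] at h1
  have h2 : (c (k • x))⁻¹ * (k * c x) ∈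
      MulAction.stabilizer K (Quotient.out (Quotient.mk (MulAction.orbitRel K X) x)) := by
    rw [MulAction.mem_stabilizer_iff, mul_smul, mul_smul, hc x, inv_smul_eq_iff, h1]
  have h3 := h _ h2
  rw [MonoidHom.mem_ker, map_mul, map_inv, map_mul, inv_mul_eq_one] at h3
  exact h3

/-- Two points are related if they differ by the right action. -/
def rightRel (L R X : Type*) [Group L] [Group R] [MulAction (L × R) X] : Setoid X where
  r x y := ∃ t : R, ((1, t) : L × R) • x = y
  iseqv := ⟨fun x => ⟨1, by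
      rw [show ((1, 1) : L × R) = 1 from rfl, one_smul]⟩,
    fun {x y} ⟨t, ht⟩ => ⟨t⁻¹, by rw [← ht, ← mul_smul]; simp [show ((1, 1) : L × R) = 1 from rfl]⟩,
    fun {x y z} ⟨t, ht⟩ ⟨t', ht'⟩ => ⟨t' * t, by rw [← ht', ← ht, ← mul_smul]; simp⟩⟩

variable {Ω : Type u} [Group Ω] {S : Subgroup Ω}

/-- In a saturated system, the focal subgroup meets the centre in `[S,S]`. -/
theorem focal_inf_center [Finite S] {p : ℕ} [Fact p.Prime] (hS : IsPGroup p S)
    {F : FusionSystem S} (hF : F.IsSaturated p) :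
    F.focalSubgroup ⊓ F.center = ⁅(S : Subgroup Ω), (S : Subgroup Ω)⁆ ⊓ F.center := by
  classical
  refine le_antisymm ?_ (inf_le_inf_right _ ?_)
  swap
  · refine Subgroup.commutator_le.2 fun a ha b hb => ?_
    have h1 : a⁻¹⁻¹ * (b * a⁻¹ * b⁻¹) ∈ F.focalSubgroup :=
      Subgroup.subset_closure
        ⟨S, conjHom S b, ⟨a⁻¹, S.inv_mem ha⟩, F.conj_mem le_rfl hb, rfl⟩
    simpa [commutatorElement_def, mul_assoc] using h1
  obtain ⟨X, _, _, hst, hbal, k, hk, hcard⟩ := exists_stable_biset hS hF
  let A := Abelianization S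
  let ab : S →* A := Abelianization.of
  let r := rightRel S S X
  have : Fintype (Quotient r) := Fintype.ofFinite _
  have hfree : ∀ (x : X) (u t : S), ((u, t) : S × S) • x = x → (u = 1 → t = 1) := by
    intro x u t h hu
    subst hu
    obtain ⟨R, θ, hθ, hv⟩ := hst x
    obtain ⟨hR, hθt⟩ := hv _ h
    exact Subtype.ext (congrArg Subtype.val
      (F.injective_of_mem hθ (hθt.trans (map_one θ).symm) : (⟨t, hR⟩ : R) = 1) :)
  -- admissible equivariant functions
  let IsD : (X → A) → Prop := fun D => ∀ (t : S) (x : X), D (((1, t) : S × S) • x) = ab t * D x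
  let f : (X → A) → S → X → A := fun D u x => D (((u, 1) : S × S) • x) * (D x)⁻¹
  have hf : ∀ D, IsD D → ∀ (u : S) (x y : X), r x y → f D u x = f D u y := by
    rintro D hD u x _ ⟨t, rfl⟩
    have hcomm : ((u, 1) : S × S) • ((1, t) : S × S) • x = ((1, t) : S × S) • ((u, 1) : S × S) • x := by
      simp only [← mul_smul, Prod.mk_mul_mk, mul_one, one_mul]
    simp only [f, hcomm, hD t]
    exact (comm_cancel _ _ _).symm
  let tr : ∀ D, IsD D → S → A := fun D hD u => ∏ q : Quotient r, Quotient.liftOn q (f D u) (hf D hD u)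
  obtain ⟨D, hD⟩ : ∃ D, IsD D := by
    let act : MulAction S X := MulAction.compHom X (MonoidHom.inr S S)
    obtain ⟨D, hD⟩ := exists_equivariant (X := X) ab fun x t ht => by
      rw [hfree x 1 t ht rfl]
      exact ab.ker.one_mem
    exact ⟨D, hD⟩
  -- independence of the choice
  have hindep : ∀ D' (hD' : IsD D') (u : S), tr D' hD' u = tr D hD u := by
    intro D' hD' u
    let c : Quotient r → A := fun q => Quotient.liftOn q (fun x => D' x * (D x)⁻¹) (by
      rintro x _ ⟨t, rfl⟩
      show D' x * (D x)⁻¹ = D' _ * (D _)⁻¹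
      rw [hD t, hD' t, comm_cancel])
    let σ : Quotient r → Quotient r := Quotient.map (fun x => ((u, 1) : S × S) • x) (by
      rintro x _ ⟨t, rfl⟩
      exact ⟨t, by simp only [← mul_smul, Prod.mk_mul_mk, mul_one, one_mul]⟩)
    have hσ : Function.Bijective σ := by
      refine Finite.injective_iff_bijective.1 fun a b h => ?_
      induction a using Quotient.inductionOn with
      | _ x =>
        induction b using Quotient.inductionOn with
        | _ y =>
          obtain ⟨t, ht⟩ := Quotient.exact h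
          refine Quotient.sound ⟨t, MulAction.injective ((u, 1) : S × S) ?_⟩
          show ((u, 1) : S × S) • ((1, t) : S × S) • x = _
          rw [← mul_smul, Prod.mk_mul_mk, mul_one, one_mul, ← ht, ← mul_smul, Prod.mk_mul_mk,
            mul_one, one_mul]
    have heq : ∀ q : Quotient r, Quotient.liftOn q (f D' u) (hf D' hD' u) =
        Quotient.liftOn q (f D u) (hf D hD u) * (c (σ q) * (c q)⁻¹) := by
      intro q
      induction q using Quotient.inductionOn with
      | _ x =>
        show f D' u x = f D u x * ((D' (((u, 1) : S × S) • x) * (D (((u, 1) : S × S) • x))⁻¹) *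
          (D' x * (D x)⁻¹)⁻¹)
        exact comm_change _ _ _ _
    show ∏ q, _ = ∏ q, _
    simp only [heq, Finset.prod_mul_distrib, Finset.prod_inv_distrib]
    rw [Fintype.prod_bijective σ hσ (fun q => c (σ q)) c fun q => rfl, mul_inv_cancel, mul_one]
  -- invariance under the system
  have hinv : ∀ {P : Subgroup Ω} {φ : P →* Ω} (hφ : φ ∈ F.Hom P) (x : P),
      tr D hD ⟨φ x, apply_mem hφ x⟩ = tr D hD ⟨x, le_left hφ x.2⟩ := by
    intro P φ hφ x
    obtain ⟨σ, hσ1, hσ2⟩ := exists_stable_perm hst hbal hφ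
    have hD' : IsD (D ∘ σ) := fun t z => by
      show D (σ _) = _
      rw [hσ1, hD]
      rfl
    rw [← hindep (D ∘ σ) hD' ⟨x, le_left hφ x.2⟩]
    let π : Quotient r → Quotient r := Quotient.map σ (by
      rintro y _ ⟨t, rfl⟩
      exact ⟨t, (hσ1 t y).symm⟩)
    have hπ : Function.Bijective π := by
      refine Finite.surjective_iff_bijective.1 fun q => ?_
      induction q using Quotient.inductionOn with
      | _ y => exact ⟨⟦σ.symm y⟧, congrArg (Quotient.mk r) (σ.apply_symm_apply y)⟩
    refine (Fintype.prod_bijective π hπ _ _ fun q => ?_).symm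
    induction q using Quotient.inductionOn with
    | _ z =>
      show f (D ∘ σ) ⟨x, le_left hφ x.2⟩ z = f D ⟨φ x, apply_mem hφ x⟩ (σ z)
      simp only [f, Function.comp_apply, hσ2]
  -- the transfer is multiplicative
  have hone : ∀ u v : S, tr D hD (u * v) = tr D hD u * tr D hD v := by
    intro u v
    let σ : Quotient r → Quotient r := Quotient.map (fun x => ((v, 1) : S × S) • x) (by
      rintro x _ ⟨t, rfl⟩
      exact ⟨t, by simp only [← mul_smul, Prod.mk_mul_mk, mul_one, one_mul]⟩)
    have hσ : Function.Bijective σ := by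
      refine Finite.surjective_iff_bijective.1 fun q => ?_
      induction q using Quotient.inductionOn with
      | _ y =>
        exact ⟨⟦((v⁻¹, 1) : S × S) • y⟧, congrArg (Quotient.mk r) (by
          show ((v, 1) : S × S) • ((v⁻¹, 1) : S × S) • y = y
          rw [← mul_smul, Prod.mk_mul_mk, mul_inv_cancel, one_mul]
          exact one_smul _ y)⟩
    show ∏ q, _ = (∏ q, _) * ∏ q, _
    rw [← Fintype.prod_bijective σ hσ (fun q => Quotient.liftOn (σ q) (f D u) (hf D hD u))
      (fun q => Quotient.liftOn q (f D u) (hf D hD u)) fun q => rfl, ← Finset.prod_mul_distrib]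
    refine Finset.prod_congr rfl fun q _ => ?_
    induction q using Quotient.inductionOn with
    | _ x =>
      show f D (u * v) x = f D u (((v, 1) : S × S) • x) * f D v x
      simp only [f, ← mul_smul, Prod.mk_mul_mk, mul_one]
      rw [mul_assoc, inv_mul_cancel_left]
  let t : S →* A := MonoidHom.mk' (tr D hD) hone
  have hfoc : F.focalSubgroup ≤ t.ker.map S.subtype := by
    refine (Subgroup.closure_le _).2 ?_
    rintro _ ⟨P, φ, x, hφ, rfl⟩
    refine ⟨⟨x, le_left hφ x.2⟩⁻¹ * ⟨φ x, apply_mem hφ x⟩, ?_, rfl⟩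
    show t _ = 1
    rw [map_mul, map_inv]
    show (tr D hD _)⁻¹ * tr D hD _ = 1
    rw [hinv hφ x, inv_mul_cancel]
  rintro z ⟨hzf, hzc⟩
  refine ⟨?_, hzc⟩
  obtain ⟨zS, hker, rfl⟩ := hfoc hzf
  have hfix : ∀ {P : Subgroup Ω} {φ : P →* Ω}, φ ∈ F.Hom P → ∀ w : P,
      (w : Ω) ∈ Subgroup.zpowers (zS : Ω) → φ w = w := by
    intro P φ hφ w hw
    have hw' : (w : Ω) ∈ F.center := Subgroup.zpowers_le.2 hzc hw
    have hle : F.center ≤ sSup {Q | F.IsCentral Q} := le_rfl
    obtain ⟨χ, hχ, hχP, hχZ⟩ := (FusionFactor.isCentral_center F).2 P φ hφ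
    rw [← hχP w]
    exact hχZ ⟨w, hw'⟩
  -- an equivariant function also for the powers of `z` on the left
  let Kz := Subgroup.zpowers zS
  let χ : Kz × S →* A :=
    MonoidHom.mk' (fun a => (ab a.1)⁻¹ * ab a.2) fun a b => by
      simp only [Prod.fst_mul, Prod.snd_mul, Subgroup.coe_mul, map_mul, mul_inv_rev]
      ac_rfl
  let act : MulAction (Kz × S) X := MulAction.compHom X (Kz.subtype.prodMap (MonoidHom.id S))
  obtain ⟨D', hD'⟩ := exists_equivariant (X := X) χ fun x a ha => by
    obtain ⟨R, θ, hθ, hv⟩ := hst x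
    have ha' : (((a.1 : S), a.2) : S × S) • x = x := ha
    obtain ⟨hR, hθa⟩ := hv _ ha'
    obtain ⟨ψ, hψ, hψv⟩ := F.inv_mem hθ
    have h1 : ψ ⟨θ ⟨a.2, hR⟩, _, rfl⟩ = θ ⟨a.2, hR⟩ := hfix hψ _ (by
      show θ _ ∈ _
      rw [hθa]
      obtain ⟨n, hn⟩ := Subgroup.mem_zpowers_iff.1 a.1.2
      exact Subgroup.mem_zpowers_iff.2 ⟨n, by rw [← hn]; simp⟩)
    rw [hψv] at h1
    have h2 : (a.1 : S) = a.2 := Subtype.ext (hθa.symm.trans h1.symm)
    show (ab a.1)⁻¹ * ab a.2 = 1
    rw [h2, inv_mul_cancel]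
  have hD'' : IsD D' := fun s x => by
    refine (hD' (1, s) x).trans ?_
    show (ab ((1 : Kz) : S))⁻¹ * ab s * D' x = _
    simp
  have hz : t zS = (ab zS)⁻¹ ^ Fintype.card (Quotient r) := by
    show tr D hD zS = _
    rw [← hindep D' hD'' zS]
    show ∏ q, _ = _
    rw [Finset.prod_eq_pow_card (fun q _ => ?_), Finset.card_univ]
    induction q using Quotient.inductionOn with
    | _ x =>
      show D' (((zS, 1) : S × S) • x) * (D' x)⁻¹ = (ab zS)⁻¹
      refine mul_inv_eq_iff_eq_mul.2 ((hD' (⟨zS, Subgroup.mem_zpowers zS⟩, 1) x).trans ?_)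
      show (ab zS)⁻¹ * ab 1 * D' x = _
      simp
  have hn : Fintype.card (Quotient r) = k := by
    have h1 : Nat.card X = Nat.card S * Nat.card (Quotient r) := by
      rw [← Nat.card_prod]
      refine Nat.card_congr (Equiv.ofBijective
        (fun a : S × Quotient r => ((1, a.1) : S × S) • a.2.out) ⟨?_, ?_⟩).symm
      · rintro ⟨a, q⟩ ⟨b, q'⟩ h
        simp only at h
        have hq : q = q' := by
          rw [← Quotient.out_eq q, ← Quotient.out_eq q']
          refine Quotient.sound ⟨b⁻¹ * a, ?_⟩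
          rw [show ((1, b⁻¹ * a) : S × S) = ((1, b) : S × S)⁻¹ * ((1, a) : S × S) by simp,
            mul_smul, h, inv_smul_smul]
        subst hq
        have hab : b⁻¹ * a = 1 := hfree q.out 1 _ (by
          rw [show ((1, b⁻¹ * a) : S × S) = ((1, b) : S × S)⁻¹ * ((1, a) : S × S) by simp,
            mul_smul, h, inv_smul_smul]) rfl
        rw [inv_mul_eq_one] at hab
        subst hab
        rfl
      · intro x
        obtain ⟨s, hs⟩ := Quotient.mk_out (s := r) x
        exact ⟨(s, ⟦x⟧), hs⟩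
    rw [← Nat.card_eq_fintype_card]
    exact Nat.eq_of_mul_eq_mul_left Nat.card_pos (h1.symm.trans hcard)
  rw [SetLike.mem_coe, MonoidHom.mem_ker, hz, inv_pow, inv_eq_one, hn] at hker
  have hcop : (orderOf (ab zS)).Coprime k := by
    obtain ⟨n, hn'⟩ := hS.exists_card_eq
    refine Nat.Coprime.coprime_dvd_left ((orderOf_map_dvd ab zS).trans
      (hn' ▸ orderOf_dvd_natCard zS)) ?_
    exact ((Fact.out : p.Prime).coprime_iff_not_dvd.2 hk).pow_left n
  have h1 : orderOf (ab zS) = 1 :=
    Nat.eq_one_of_dvd_coprimes hcop dvd_rfl (orderOf_dvd_of_pow_eq_one hker)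
  rw [orderOf_eq_one_iff] at h1
  have h2 : zS ∈ commutator S := by
    rw [← Abelianization.ker_of]
    exact h1
  rw [← Subgroup.map_subtype_commutator]
  exact ⟨zS, h2, rfl⟩

end CfsgLib.FusionBiset
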